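import Cfsg.Agent.Mrg.Omega.NO1.Beta.Meet

section


/-!
# Type (gamma): rows and columns, (I1) of the plan

`Grid.rc : Grid V R Q → RC V R Q`.
-/

set_option autoImplicit false
set_option linter.unusedVariables false
set_option linter.unusedSectionVars false

open Subgroup
open scoped Pointwise

namespace Cfsg.Agent.Omega.NO1.Gamma

open Cfsg.Agent.Omega.NO1.Beta.Meet (cj mem_cj conj_mem_cj cj_mul cj_inj cj_eq_of_comm cj_eq_of_mem
  mem_normalizer_of_cj cj_of_mem_normalizer)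

variable {G : Type*} [Group G] {I J : Type*}

/-- product of two subgroups of an abelian group -/
theorem mem_sup_comm {A B : Subgroup G} (h : ∀ a ∈ A, ∀ b ∈ B, a * b = b * a) {x : G} (hx : x ∈ A ⊔ B) :
    ∃ a ∈ A, ∃ b ∈ B, x = a * b := by
  have hn : A ≤ normalizer (B : Set G) := by
    intro a ha
    apply mem_normalizer_of_cj
    apply cj_eq_of_comm
    intro b hb
    exact h a ha b hb
  have h1 := Subgroup.coe_mul_of_left_le_normalizer_right A B hn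
  rw [← SetLike.mem_coe, h1, Set.mem_mul] at hx
  obtain ⟨a, ha, b, hb, rfl⟩ := hx
  exact ⟨a, ha, b, hb, rfl⟩

theorem cj_one' (H : Subgroup G) : cj 1 H = H := by
  apply cj_eq_of_comm
  intro x _
  rw [one_mul, mul_one]

theorem cj_inv_of {c : G} {H K : Subgroup G} (h : cj c H = K) : cj c⁻¹ K = H := by
  rw [← h, ← cj_mul, inv_mul_cancel, cj_one']

theorem mem_of_cj {c x : G} {H K : Subgroup G} (h : cj c H = K) (hx : x ∈ H) : c * x * c⁻¹ ∈ K := by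
  rw [← h]; exact conj_mem_cj hx

theorem mem_of_cj' {c x : G} {H K : Subgroup G} (h : cj c H = K) (hx : x ∈ K) : c⁻¹ * x * c ∈ H := by
  rw [← h, mem_cj] at hx; exact hx

theorem mem_centralizer' {V : Subgroup G} {x : G} :
    x ∈ centralizer (V : Set G) ↔ ∀ v ∈ V, x * v = v * x := by
  rw [mem_centralizer_iff]
  exact ⟨fun h v hv => (h v hv).symm, fun h v hv => (h v hv).symm⟩

namespace Grid

variable {V : Subgroup G} {R Q : I → J → Subgroup G}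

/-- the transposed grid -/
theorem transpose (g : Grid V R Q) : Grid V (fun j i => R i j) (fun j i => Q i j) where
  comm := g.comm
  V_sq := g.V_sq
  R_le j i := g.R_le i j
  ne j i := g.ne i j
  row j i k := g.col i k j
  col j l i := g.row i j l
  disj j i l k h := (g.disj i j k l h).symm
  QQ j i := g.QQ i j
  Qsq j i := g.Qsq i j
  RQ j i := g.RQ i j
  cen j i := g.cen i j
  Q_V j i := g.Q_V i j
  conj y j i l k h := g.conj y i j k l h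
  perm j i y hy := by
    obtain ⟨σ, τ, h1, h2, h3⟩ := g.perm i j y hy
    exact ⟨τ, σ, h2, h1, fun l k => h3 k l⟩
  fix j i l k hl hk := g.fix i j k l hk hl
  tran j i l k l' k' hl hl' hk hk' := g.tran i j k l k' l' hk hk' hl hl'
  meet j i l k hl hk := g.meet i j k l hk hl
  RQj j i l k hl hk := g.RQj i j k l hk hl
  VE₁ j i k h := g.VE₂ i k j h
  VE₂ j l i h := g.VE₁ i j l h
  VE j i l k h h' := g.VE i j k l h' h
  EE j i l k hl hk := by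
    refine (g.EE i j k l hk hl).trans ?_
    rw [sup_assoc, sup_comm (R i l), ← sup_assoc]
  threeI := g.threeJ
  threeJ := g.threeI
  act₁ j i i' := g.act₂ j i i'
  act₂ i j j' := g.act₁ i j j'
  tor₁ j i := by
    obtain ⟨h, hh, h2⟩ := g.tor₂ i j
    refine ⟨h, ?_, h2⟩
    rw [iSup_comm]; exact hh
  tor₂ j i := by
    obtain ⟨h, hh, h2⟩ := g.tor₁ i j
    refine ⟨h, ?_, h2⟩
    rw [iSup_comm]; exact hh

variable (g : Grid V R Q)
include g

theorem inj {i k : I} {j l : J} (h : R i j = R k l) : i = k ∧ j = l :=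
  g.disj i j k l (by rw [← h, inf_idem]; exact g.ne i j)

theorem R_Q (i : I) (j : J) : R i j ≤ Q i j := g.row i j j

theorem V_le_C : V ≤ centralizer (V : Set G) := fun v hv => mem_centralizer'.2 fun w hw => g.comm v hv w hw

theorem C_V {c v : G} (hc : c ∈ centralizer (V : Set G)) (hv : v ∈ V) : c * v = v * c :=
  mem_centralizer'.1 hc v hv

theorem C_R {c : G} (hc : c ∈ centralizer (V : Set G)) (i : I) (j : J) : cj c (R i j) = R i j :=
  cj_eq_of_comm fun x hx => g.C_V hc (g.R_le i j hx)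

theorem C_Q {c : G} (hc : c ∈ centralizer (V : Set G)) (i : I) (j : J) : cj c (Q i j) = Q i j :=
  g.conj c i j i j (g.C_R hc i j)

theorem conj_V {i : I} {j : J} {y v : G} (hy : y ∈ Q i j) (hv : v ∈ V) : y * v * y⁻¹ ∈ V :=
  (mem_normalizer_iff.mp (g.Q_V i j hy) v).mp hv

theorem conj_C {y c : G} (hy : y ∈ normalizer (V : Set G)) (hc : c ∈ centralizer (V : Set G)) :
    y * c * y⁻¹ ∈ centralizer (V : Set G) := by
  rw [mem_centralizer'] at hc ⊢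
  intro v hv
  have h1 : y⁻¹ * v * y ∈ V := by
    have := (mem_normalizer_iff.mp ((normalizer (V : Set G)).inv_mem hy) v).mp hv
    rwa [inv_inv] at this
  calc y * c * y⁻¹ * v = y * (c * (y⁻¹ * v * y)) * y⁻¹ := by group
    _ = y * ((y⁻¹ * v * y) * c) * y⁻¹ := by rw [hc _ h1]
    _ = v * (y * c * y⁻¹) := by group

/-- `[C(V), Q i j] ≤ C_{Q i j}(V)` -/
theorem comm_CQ {i : I} {j : J} {c y : G} (hc : c ∈ centralizer (V : Set G)) (hy : y ∈ Q i j) :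
    c * y * c⁻¹ * y⁻¹ ∈ Q i j ∧ c * y * c⁻¹ * y⁻¹ ∈ centralizer (V : Set G) := by
  constructor
  · exact mul_mem (mem_of_cj (g.C_Q hc i j) hy) (inv_mem hy)
  · have := g.conj_C (g.Q_V i j hy) (inv_mem hc)
    have h2 := mul_mem hc this
    have e : c * y * c⁻¹ * y⁻¹ = c * (y * c⁻¹ * y⁻¹) := by group
    rw [e]; exact h2

theorem fix_R {i : I} {j : J} {y : G} (hy : y ∈ Q i j) : cj y (R i j) = R i j :=
  cj_eq_of_comm fun x hx => (g.RQ i j x hx y hy).symm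

theorem exists_ne_row (i : I) : ∃ k, k ≠ i := by
  obtain ⟨m, h, -⟩ := g.threeI i i; exact ⟨m, h⟩

theorem exists_ne_col (j : J) : ∃ l, l ≠ j := by
  obtain ⟨m, h, -⟩ := g.threeJ j j; exact ⟨m, h⟩

/-- an element of `Q i j` which fixes one more column fixes all columns -/
theorem fixc_of_one {i : I} {j l : J} (hl : l ≠ j) {y : G} (hy : y ∈ Q i j) (h : cj y (R i l) = R i l)
    (m : J) : cj y (R i m) = R i m := by
  by_cases hm : m = j
  · rw [hm]; exact g.fix_R hy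
  obtain ⟨k, hk⟩ := g.exists_ne_row i
  obtain ⟨z, hz, hzR⟩ := g.tran i j k l k m hk hk hl hm
  obtain ⟨σ, τ, h1, h2, h3⟩ := g.perm i j z hz
  have h4 : cj z (R i l) = R i m := by
    have h5 := h3 k l
    rw [hzR] at h5
    rw [h3 i l, h1, (g.inj h5).2]
  have h6 : cj (y * z * y⁻¹ * z⁻¹) (R i m) = R i m := by
    apply g.C_R
    exact g.V_le_C (g.R_le i j (g.QQ i j y hy z hz))
  have h7 : y * z = (y * z * y⁻¹ * z⁻¹) * (z * y) := by group
  calc cj y (R i m) = cj y (cj z (R i l)) := by rw [h4]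
    _ = cj (y * z) (R i l) := (cj_mul _ _ _).symm
    _ = cj ((y * z * y⁻¹ * z⁻¹) * (z * y)) (R i l) := by rw [← h7]
    _ = cj (y * z * y⁻¹ * z⁻¹) (cj z (cj y (R i l))) := by rw [cj_mul, cj_mul z y]
    _ = R i m := by rw [h, h4, h6]

/-- an element of `Q i j` fixing the columns -/
theorem fixc {i : I} {j : J} {y : G} (hy : y ∈ Q i j) (h : ∀ l, cj y (R i l) = R i l) :
    ∃ σ : I → I, σ i = i ∧ ∀ k l, cj y (R k l) = R (σ k) l := by
  obtain ⟨σ, τ, h1, h2, h3⟩ := g.perm i j y hy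
  refine ⟨σ, h1, fun k l => ?_⟩
  rw [h3 k l]
  have h4 := h3 i l
  rw [h l, h1] at h4
  rw [← (g.inj h4).2]

/-- `Q i j = Q' Q''` -/
theorem split {i : I} {j : J} {x : G} (hx : x ∈ Q i j) :
    ∃ x' ∈ Q i j, (∀ l, cj x' (R i l) = R i l) ∧ ∀ k, cj (x'⁻¹ * x) (R k j) = R k j := by
  obtain ⟨k, hk⟩ := g.exists_ne_row i
  obtain ⟨l, hl⟩ := g.exists_ne_col j
  obtain ⟨σ, τ, h1, h2, h3⟩ := g.perm i j x hx
  have hσ : σ k ≠ i := by
    intro h
    have h4 : cj x (R k j) = cj x (R i j) := by rw [h3, h3, h, h1]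
    exact hk (g.inj (cj_inj h4)).1
  obtain ⟨x', hx', hR⟩ := g.tran i j k l (σ k) l hk hσ hl hl
  obtain ⟨σ', τ', h1', h2', h3'⟩ := g.perm i j x' hx'
  have h5 := h3' k l
  rw [hR] at h5
  have h6 : ∀ m, cj x' (R i m) = R i m := by
    apply g.fixc_of_one hl hx'
    rw [h3', h1', ← (g.inj h5).2]
  refine ⟨x', hx', h6, ?_⟩
  have h7 : cj (x'⁻¹ * x) (R k j) = R k j := by
    rw [cj_mul, h3, h2]
    apply cj_inv_of
    rw [h3', h2', (g.inj h5).1]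
  intro m
  exact g.transpose.fixc_of_one (i := j) (j := i) hk ((Q i j).mul_mem ((Q i j).inv_mem hx') hx) h7 m

/-- two opposite points -/
theorem comm_DD {i k : I} {j l : J} (hk : k ≠ i) (hl : l ≠ j) {a b : G} (ha : a ∈ Q i j)
    (haC : a ∈ centralizer (V : Set G)) (hb : b ∈ Q k l) (hbC : b ∈ centralizer (V : Set G)) :
    a * b * a⁻¹ * b⁻¹ ∈ V := by
  apply g.meet i j k l hk hl
  refine mem_inf.2 ⟨?_, (g.comm_CQ haC hb).1⟩
  have h1 := (g.comm_CQ hbC ha).1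
  have e : a * b * a⁻¹ * b⁻¹ = (b * a * b⁻¹ * a⁻¹)⁻¹ := by group
  rw [e]; exact inv_mem h1

/-- the subgroup `V C_{Q i j}(V) C_{Q k l}(V)` for opposite points -/
def W {i k : I} {j l : J} (hk : k ≠ i) (hl : l ≠ j) : Subgroup G where
  carrier := {x | ∃ v ∈ V, ∃ a ∈ Q i j ⊓ centralizer (V : Set G), ∃ b ∈ Q k l ⊓ centralizer (V : Set G),
    x = v * a * b}
  one_mem' := ⟨1, one_mem _, 1, one_mem _, 1, one_mem _, by group⟩
  mul_mem' := by
    rintro _ _ ⟨v, hv, a, ha, b, hb, rfl⟩ ⟨v', hv', a', ha', b', hb', rfl⟩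
    have h1 := g.comm_DD hk hl (inv_mem ha'.1) (inv_mem ha'.2) (inv_mem hb.1) (inv_mem hb.2)
    have h1' : a'⁻¹ * b⁻¹ * a' * b ∈ V := by simpa using h1
    have h1'' := inv_mem h1'
    -- w = b⁻¹ a'⁻¹ b a'
    set w := (a'⁻¹ * b⁻¹ * a' * b)⁻¹ with hw
    refine ⟨v * v' * w, mul_mem (mul_mem hv hv') h1'', a * a', mul_mem ha ha', b * b', mul_mem hb hb', ?_⟩
    have c1 : b * v' = v' * b := g.C_V hb.2 hv'
    have c2 : a * v' = v' * a := g.C_V ha.2 hv'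
    have c3 : (a * a' * b) * w = w * (a * a' * b) := g.C_V (mul_mem (mul_mem ha.2 ha'.2) hb.2) h1''
    have e1 : b * a' = a' * b * w := by rw [hw]; group
    calc v * a * b * (v' * a' * b') = v * a * (b * v') * a' * b' := by group
      _ = v * (a * v') * (b * a') * b' := by rw [c1]; group
      _ = v * v' * (a * a' * b * w) * b' := by rw [c2, e1]; group
      _ = v * v' * w * (a * a') * (b * b') := by rw [c3]; group
  inv_mem' := by
    rintro _ ⟨v, hv, a, ha, b, hb, rfl⟩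
    have h1 := g.comm_DD hk hl ha.1 ha.2 hb.1 hb.2
    set w := a * b * a⁻¹ * b⁻¹ with hw
    have hba : b⁻¹ * a⁻¹ ∈ centralizer (V : Set G) :=
      mul_mem ((centralizer (V : Set G)).inv_mem hb.2) ((centralizer (V : Set G)).inv_mem ha.2)
    refine ⟨v⁻¹ * w⁻¹, mul_mem (V.inv_mem hv) (V.inv_mem h1), a⁻¹, inv_mem ha, b⁻¹, inv_mem hb, ?_⟩
    have c1 : (b⁻¹ * a⁻¹) * v⁻¹ = v⁻¹ * (b⁻¹ * a⁻¹) := g.C_V hba (V.inv_mem hv)
    have e1 : a⁻¹ * b⁻¹ = b⁻¹ * a⁻¹ * w := by rw [hw]; group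
    have c2 : (b⁻¹ * a⁻¹) * w = w * (b⁻¹ * a⁻¹) := g.C_V hba h1
    calc (v * a * b)⁻¹ = (b⁻¹ * a⁻¹) * v⁻¹ := by group
      _ = v⁻¹ * (b⁻¹ * a⁻¹) := c1
      _ = v⁻¹ * (w⁻¹ * (w * (b⁻¹ * a⁻¹))) := by group
      _ = v⁻¹ * (w⁻¹ * (a⁻¹ * b⁻¹)) := by rw [← c2, ← e1]
      _ = _ := by group

theorem mem_W {i k : I} {j l : J} {hk : k ≠ i} {hl : l ≠ j} {x : G} : x ∈ g.W hk hl ↔
    ∃ v ∈ V, ∃ a ∈ Q i j ⊓ centralizer (V : Set G), ∃ b ∈ Q k l ⊓ centralizer (V : Set G), x = v * a * b :=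
  Iff.rfl

theorem V_le_W {i k : I} {j l : J} (hk : k ≠ i) (hl : l ≠ j) : V ≤ g.W hk hl := fun v hv =>
  ⟨v, hv, 1, one_mem _, 1, one_mem _, by group⟩

theorem D_le_W {i k : I} {j l : J} (hk : k ≠ i) (hl : l ≠ j) :
    Q i j ⊓ centralizer (V : Set G) ≤ g.W hk hl := fun a ha =>
  ⟨1, one_mem _, a, ha, 1, one_mem _, by group⟩

theorem D_le_W' {i k : I} {j l : J} (hk : k ≠ i) (hl : l ≠ j) :
    Q k l ⊓ centralizer (V : Set G) ≤ g.W hk hl := fun b hb =>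
  ⟨1, one_mem _, 1, one_mem _, b, hb, by group⟩

theorem W_le {i k : I} {j l : J} (hk : k ≠ i) (hl : l ≠ j) {X : Subgroup G} (hV : V ≤ X)
    (h1 : Q i j ⊓ centralizer (V : Set G) ≤ X) (h2 : Q k l ⊓ centralizer (V : Set G) ≤ X) :
    g.W hk hl ≤ X := by
  rintro _ ⟨v, hv, a, ha, b, hb, rfl⟩
  exact mul_mem (mul_mem (hV hv) (h1 ha)) (h2 hb)

theorem W_symm {i k : I} {j l : J} (hk : k ≠ i) (hl : l ≠ j) : g.W hk hl = g.W hk.symm hl.symm :=
  le_antisymm (g.W_le hk hl (g.V_le_W _ _) (g.D_le_W' _ _) (g.D_le_W _ _))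
    (g.W_le hk.symm hl.symm (g.V_le_W _ _) (g.D_le_W' _ _) (g.D_le_W _ _))

theorem W_le_W {i k m : I} {j l n : J} (hk : k ≠ i) (hl : l ≠ j) (hm : m ≠ i) (hn : n ≠ j) :
    g.W hm hn ≤ g.W hk hl := by
  apply g.W_le hm hn (g.V_le_W _ _) (g.D_le_W _ _)
  intro d hd
  obtain ⟨y, hy, hR⟩ := g.tran i j k l m n hk hm hl hn
  have hQ := g.conj y _ _ _ _ hR
  have h1 : y⁻¹ * d * y ∈ Q k l := mem_of_cj' hQ hd.1
  have h2 : y⁻¹ * d * y ∈ centralizer (V : Set G) := by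
    have := g.conj_C (inv_mem (g.Q_V i j hy)) hd.2
    rwa [inv_inv] at this
  have h3 := g.comm_CQ (inv_mem h2) hy
  refine ⟨1, one_mem _, d * (y⁻¹ * d * y)⁻¹, mem_inf.2 ⟨?_, ?_⟩, y⁻¹ * d * y, mem_inf.2 ⟨h1, h2⟩, by group⟩
  · have h5 := g.comm_CQ h2 hy
    have e : d * (y⁻¹ * d * y)⁻¹ = ((y⁻¹ * d * y) * y * (y⁻¹ * d * y)⁻¹ * y⁻¹)⁻¹ := by group
    rw [e]; exact inv_mem h5.1
  · exact mul_mem hd.2 (inv_mem h2)

theorem W_eq_W {i k m : I} {j l n : J} (hk : k ≠ i) (hl : l ≠ j) (hm : m ≠ i) (hn : n ≠ j) :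
    g.W hm hn = g.W hk hl := le_antisymm (g.W_le_W _ _ _ _) (g.W_le_W _ _ _ _)

/-- all `C_{Q m n}(V)` are in `W` -/
theorem D_le {i k : I} {j l : J} (hk : k ≠ i) (hl : l ≠ j) (m : I) (n : J) :
    Q m n ⊓ centralizer (V : Set G) ≤ g.W hk hl := by
  -- opposite to the first point
  have case1 : ∀ {i k : I} {j l : J} (hk : k ≠ i) (hl : l ≠ j), m ≠ i → n ≠ j →
      Q m n ⊓ centralizer (V : Set G) ≤ g.W hk hl := fun hk hl hm hn =>
    (g.D_le_W' hm hn).trans (g.W_le_W _ _ _ _)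
  by_cases h1 : m ≠ i ∧ n ≠ j
  · exact case1 hk hl h1.1 h1.2
  by_cases h2 : m ≠ k ∧ n ≠ l
  · rw [g.W_symm]
    exact case1 hk.symm hl.symm h2.1 h2.2
  -- a point opposite to everything
  obtain ⟨a, ha1, ha2⟩ := g.threeI i k
  obtain ⟨b, hb1, hb2⟩ := g.threeJ j l
  have hm : m = i ∨ m = k := by
    by_contra hcon
    push Not at hcon
    apply h1
    refine ⟨hcon.1, fun hn => ?_⟩
    exact h2 ⟨hcon.2, fun h => hl (h.symm.trans hn)⟩
  have hn : n = j ∨ n = l := by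
    by_contra hcon
    push Not at hcon
    apply h1
    refine ⟨fun hm => ?_, hcon.1⟩
    exact h2 ⟨fun h => hk (h.symm.trans hm), hcon.2⟩
  have hma : m ≠ a := by rcases hm with rfl | rfl <;> [exact ha1.symm; exact ha2.symm]
  have hnb : n ≠ b := by rcases hn with rfl | rfl <;> [exact hb1.symm; exact hb2.symm]
  have h3 : g.W ha1 hb1 ≤ g.W hk hl := g.W_le_W _ _ _ _
  refine le_trans ?_ h3
  rw [g.W_symm]
  exact case1 ha1.symm hb1.symm hma hnb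

/-- `L = V ∏ C_{Q m n}(V)` -/
theorem W_const {i k m p : I} {j l n q : J} (hk : k ≠ i) (hl : l ≠ j) (hp : p ≠ m) (hq : q ≠ n) :
    g.W hk hl = g.W hp hq :=
  le_antisymm (g.W_le _ _ (g.V_le_W _ _) (g.D_le _ _ _ _) (g.D_le _ _ _ _))
    (g.W_le _ _ (g.V_le_W _ _) (g.D_le _ _ _ _) (g.D_le _ _ _ _))

theorem W_C {i k : I} {j l : J} (hk : k ≠ i) (hl : l ≠ j) : g.W hk hl ≤ centralizer (V : Set G) :=
  g.W_le _ _ g.V_le_C inf_le_right inf_le_right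

/-- `L/V` is abelian -/
theorem W_comm {i k : I} {j l : J} (hk : k ≠ i) (hl : l ≠ j) {x y : G} (hx : x ∈ g.W hk hl)
    (hy : y ∈ g.W hk hl) : x * y * x⁻¹ * y⁻¹ ∈ V := by
  -- bilinearity
  have mulL : ∀ {a b y : G}, a ∈ centralizer (V : Set G) → a * y * a⁻¹ * y⁻¹ ∈ V → b * y * b⁻¹ * y⁻¹ ∈ V →
      (a * b) * y * (a * b)⁻¹ * y⁻¹ ∈ V := by
    intro a b y ha h1 h2
    have e : (a * b) * y * (a * b)⁻¹ * y⁻¹ = (a * (b * y * b⁻¹ * y⁻¹)) * a⁻¹ * (a * y * a⁻¹ * y⁻¹) := by group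
    rw [e, g.C_V ha h2]
    have e2 : b * y * b⁻¹ * y⁻¹ * a * a⁻¹ = b * y * b⁻¹ * y⁻¹ := by group
    rw [e2]
    exact mul_mem h2 h1
  have symm : ∀ {a b : G}, a * b * a⁻¹ * b⁻¹ ∈ V → b * a * b⁻¹ * a⁻¹ ∈ V := by
    intro a b h
    have e : b * a * b⁻¹ * a⁻¹ = (a * b * a⁻¹ * b⁻¹)⁻¹ := by group
    rw [e]; exact inv_mem h
  have key : ∀ {x : G}, x ∈ g.W hk hl → ∀ {y : G}, y ∈ centralizer (V : Set G) →
      (∀ a ∈ Q i j ⊓ centralizer (V : Set G), a * y * a⁻¹ * y⁻¹ ∈ V) →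
      (∀ b ∈ Q k l ⊓ centralizer (V : Set G), b * y * b⁻¹ * y⁻¹ ∈ V) → x * y * x⁻¹ * y⁻¹ ∈ V := by
    rintro _ ⟨v, hv, a, ha, b, hb, rfl⟩ y hyC h1 h2
    have hvy : v * y * v⁻¹ * y⁻¹ ∈ V := by
      rw [← g.C_V hyC hv]
      have e : y * v * v⁻¹ * y⁻¹ = 1 := by group
      rw [e]; exact one_mem _
    exact mulL (mul_mem (g.V_le_C hv) ha.2) (mulL (g.V_le_C hv) hvy (h1 a ha)) (h2 b hb)
  have hself : ∀ {m : I} {n : J} {a a' : G}, a ∈ Q m n → a' ∈ Q m n → a * a' * a⁻¹ * a'⁻¹ ∈ V :=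
    fun ha ha' => g.R_le _ _ (g.QQ _ _ _ ha _ ha')
  apply key hx (g.W_C _ _ hy)
  · intro a ha
    apply symm
    apply key hy ha.2
    · intro a' ha'
      exact hself ha'.1 ha.1
    · intro b' hb'
      exact symm (g.comm_DD hk hl ha.1 ha.2 hb'.1 hb'.2)
  · intro b hb
    apply symm
    apply key hy hb.2
    · intro a' ha'
      exact g.comm_DD hk hl ha'.1 ha'.2 hb.1 hb.2
    · intro b' hb'
      exact hself hb'.1 hb.1

theorem VE_mul {i k : I} {j l : J} (h : V ≤ (V ⊓ Q i j) ⊔ (V ⊓ Q k l)) {v : G} (hv : v ∈ V) :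
    ∃ e ∈ V ⊓ Q i j, ∃ f ∈ V ⊓ Q k l, v = e * f :=
  mem_sup_comm (fun a ha b hb => g.comm a (mem_inf.1 ha).1 b (mem_inf.1 hb).1) (h hv)

/-- `C_{Q i j}(V) V ∩ C_{Q k l}(V) V = V` for opposite points -/
theorem DD_V {i k : I} {j l : J} (hk : k ≠ i) (hl : l ≠ j) {a b : G} (ha : a ∈ Q i j)
    (haC : a ∈ centralizer (V : Set G)) (hb : b ∈ Q k l)
    (hab : a * b ∈ V) : a ∈ V ∧ b ∈ V := by
  obtain ⟨e, he, f, hf, hef⟩ := g.VE_mul (g.VE i j k l hk.symm hl.symm) hab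
  have h1 : a * b = f * e := by rw [hef, g.comm e he.1 f hf.1]
  have h2 : f⁻¹ * a = e * b⁻¹ := by
    calc f⁻¹ * a = f⁻¹ * (a * b) * b⁻¹ := by group
      _ = e * b⁻¹ := by rw [h1]; group
  have h3 : e⁻¹ * a ∈ V := by
    apply g.meet i j k l hk hl
    refine ⟨(Q i j).mul_mem ((Q i j).inv_mem he.2) ha, ?_⟩
    have h4 : e⁻¹ * a = f * b⁻¹ := by
      calc e⁻¹ * a = e⁻¹ * (a * b) * b⁻¹ := by group
        _ = f * b⁻¹ := by rw [hef]; group
    rw [h4]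
    exact (Q k l).mul_mem hf.2 ((Q k l).inv_mem hb)
  have h5 : a ∈ V := by
    have := mul_mem he.1 h3
    rwa [mul_inv_cancel_left] at this
  refine ⟨h5, ?_⟩
  have := V.mul_mem (V.inv_mem h5) hab
  rwa [inv_mul_cancel_left] at this

end Grid

end Cfsg.Agent.Omega.NO1.Gamma

end

section


/-!
# Type (gamma): `Grid.rc : Grid V R Q → RC V R Q`
-/

set_option autoImplicit false
set_option linter.unusedVariables false
set_option linter.unusedSectionVars false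

open Subgroup
open scoped Pointwise

namespace Cfsg.Agent.Omega.NO1.Gamma

open Cfsg.Agent.Omega.NO1.Beta.Meet (cj mem_cj conj_mem_cj cj_mul cj_inj cj_eq_of_comm cj_eq_of_mem
  mem_normalizer_of_cj cj_of_mem_normalizer)

variable {G : Type*} [Group G] {I J : Type*}

namespace Grid

variable {V : Subgroup G} {R Q : I → J → Subgroup G} (g : Grid V R Q)
include g

/-- `[X, C(V)] ≤ L` -/
theorem X_act {i k : I} {j l : J} (hk : k ≠ i) (hl : l ≠ j) {h : G} (hh : h ∈ ⨆ k, ⨆ l, Q k l) :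
    h ∈ normalizer (V : Set G) ∧ ∀ c ∈ centralizer (V : Set G), h * c * h⁻¹ * c⁻¹ ∈ g.W hk hl := by
  have hmul : ∀ {x y : G}, (∀ c ∈ centralizer (V : Set G), x * c * x⁻¹ * c⁻¹ ∈ g.W hk hl) →
      (∀ c ∈ centralizer (V : Set G), y * c * y⁻¹ * c⁻¹ ∈ g.W hk hl) →
      ∀ c ∈ centralizer (V : Set G), x * y * c * (x * y)⁻¹ * c⁻¹ ∈ g.W hk hl := by
    intro x y hx hy c hc
    have h1 := hy c hc
    have h2 := hx _ (g.W_C hk hl h1)
    have e : x * y * c * (x * y)⁻¹ * c⁻¹ =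
        (x * (y * c * y⁻¹ * c⁻¹) * x⁻¹ * (y * c * y⁻¹ * c⁻¹)⁻¹) * (y * c * y⁻¹ * c⁻¹) *
          (x * c * x⁻¹ * c⁻¹) := by group
    rw [e]
    exact mul_mem (mul_mem h2 h1) (hx c hc)
  have hP : ∀ h ∈ ⨆ k, ⨆ l, Q k l, h ∈ normalizer (V : Set G) ∧
      (∀ c ∈ centralizer (V : Set G), h * c * h⁻¹ * c⁻¹ ∈ g.W hk hl) ∧
      (∀ c ∈ centralizer (V : Set G), h⁻¹ * c * h⁻¹⁻¹ * c⁻¹ ∈ g.W hk hl) := by
    intro h hh
    have hQ : ∀ i j, ∀ y ∈ Q i j, ∀ c ∈ centralizer (V : Set G), y * c * y⁻¹ * c⁻¹ ∈ g.W hk hl := by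
      intro i j y hy c hc
      have h1 := g.comm_CQ hc hy
      have e : y * c * y⁻¹ * c⁻¹ = (c * y * c⁻¹ * y⁻¹)⁻¹ := by group
      rw [e]
      exact inv_mem (g.D_le hk hl i j (mem_inf.2 h1))
    have hone : ∀ c ∈ centralizer (V : Set G), (1 : G) * c * 1⁻¹ * c⁻¹ ∈ g.W hk hl := by
      intro c _
      have e : (1 : G) * c * 1⁻¹ * c⁻¹ = 1 := by group
      rw [e]; exact one_mem _
    refine iSup_induction (S := fun k => ⨆ l, Q k l) (C := fun h => h ∈ normalizer (V : Set G) ∧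
      (∀ c ∈ centralizer (V : Set G), h * c * h⁻¹ * c⁻¹ ∈ g.W hk hl) ∧
      (∀ c ∈ centralizer (V : Set G), h⁻¹ * c * h⁻¹⁻¹ * c⁻¹ ∈ g.W hk hl)) hh ?_ ?_ ?_
    · intro i x hx
      refine iSup_induction (S := fun l => Q i l) (C := fun h => h ∈ normalizer (V : Set G) ∧
        (∀ c ∈ centralizer (V : Set G), h * c * h⁻¹ * c⁻¹ ∈ g.W hk hl) ∧
        (∀ c ∈ centralizer (V : Set G), h⁻¹ * c * h⁻¹⁻¹ * c⁻¹ ∈ g.W hk hl)) hx ?_ ?_ ?_
      · intro j y hy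
        exact ⟨g.Q_V i j hy, hQ i j y hy, hQ i j _ (inv_mem hy)⟩
      · refine ⟨one_mem _, hone, ?_⟩
        rw [inv_one]; exact hone
      · rintro x y ⟨h1, h2, h3⟩ ⟨h1', h2', h3'⟩
        refine ⟨mul_mem h1 h1', hmul h2 h2', ?_⟩
        rw [mul_inv_rev]
        exact hmul h3' h3
    · refine ⟨one_mem _, hone, ?_⟩
      rw [inv_one]; exact hone
    · rintro x y ⟨h1, h2, h3⟩ ⟨h1', h2', h3'⟩
      refine ⟨mul_mem h1 h1', hmul h2 h2', ?_⟩
      rw [mul_inv_rev]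
      exact hmul h3' h3
  exact ⟨(hP h hh).1, (hP h hh).2.1⟩

/-- (a) `Q'_{ij} L = Q'_{ij'} L` -/
theorem rowL {i k m : I} {j l j' : J} (hk : k ≠ m) (hl : l ≠ j') {n : J} {x : G} (hx : x ∈ Q i j)
    (hc : ∀ l, cj x (R i l) = R i l) : ∃ y ∈ Q i n, (∀ l, cj y (R i l) = R i l) ∧ ∃ w ∈ g.W hk hl,
      x = y * w := by
  obtain ⟨h, hh, hfix, hsur⟩ := g.tor₁ i j
  obtain ⟨z, hz, hzc, hzC⟩ := hsur x hx hc
  obtain ⟨w, hw, hwc, hwC⟩ := g.act₁ i j n z hz hzc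
  obtain ⟨hV, hXL⟩ := g.X_act hk hl hh
  have hQn : cj h (Q i n) = Q i n := g.conj h i n i n (hfix n)
  have hQj : cj h (Q i j) = Q i j := g.conj h i j i j (hfix j)
  set c := w⁻¹ * z with hcdef
  have hz' : z = w * c := by rw [hcdef]; group
  have h1 := hXL c hwC
  -- `y = [h, w]`
  have hyQ : h * w * h⁻¹ * w⁻¹ ∈ Q i n := mul_mem (mem_of_cj hQn hw) (inv_mem hw)
  have h2 : w * (h * c * h⁻¹ * c⁻¹) * w⁻¹ ∈ g.W hk hl := by
    have hwX : w ∈ ⨆ k, ⨆ l, Q k l :=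
      (le_iSup_of_le (f := fun k => ⨆ l, Q k l) i (le_iSup (fun l => Q i l) n) : Q i n ≤ _) hw
    have h3 := (g.X_act hk hl hwX).2 _ (g.W_C hk hl h1)
    have := mul_mem h3 h1
    have e : w * (h * c * h⁻¹ * c⁻¹) * w⁻¹ * (h * c * h⁻¹ * c⁻¹)⁻¹ * (h * c * h⁻¹ * c⁻¹) =
      w * (h * c * h⁻¹ * c⁻¹) * w⁻¹ := by group
    rwa [e] at this
  have h4 : h * z * h⁻¹ * z⁻¹ = (h * w * h⁻¹ * w⁻¹) * (w * (h * c * h⁻¹ * c⁻¹) * w⁻¹) := by
    rw [hz']; group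
  have h5 : h * z * h⁻¹ * z⁻¹ ∈ Q i j := mul_mem (mem_of_cj hQj hz) (inv_mem hz)
  have h6 : x⁻¹ * (h * z * h⁻¹ * z⁻¹) ∈ g.W hk hl :=
    g.D_le hk hl i j (mem_inf.2 ⟨mul_mem (inv_mem hx) h5, hzC⟩)
  refine ⟨h * w * h⁻¹ * w⁻¹, hyQ, fun l => ?_, (w * (h * c * h⁻¹ * c⁻¹) * w⁻¹) *
    (x⁻¹ * (h * z * h⁻¹ * z⁻¹))⁻¹, mul_mem h2 (inv_mem h6), ?_⟩
  · rw [cj_mul, cj_mul, cj_mul, cj_inv_of (hwc l), cj_inv_of (hfix l), hwc l, hfix l]
  · rw [← mul_assoc, ← h4]; group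

/-- (b) `[L, Q'_{ij}] ≤ C_{Q_{ij} ⊓ Q_{ij'}}(V) (V ⊓ Q_{ij})` -/
theorem comm_row {i k m : I} {j l n : J} (hk : k ≠ m) (hl : l ≠ n) {j' : J} (hj : j ≠ j') {x w : G}
    (hx : x ∈ Q i j) (hc : ∀ l, cj x (R i l) = R i l) (hw : w ∈ g.W hk hl) :
    ∃ a ∈ Q i j ⊓ Q i j' ⊓ centralizer (V : Set G), ∃ e ∈ V ⊓ Q i j, w * x * w⁻¹ * x⁻¹ = a * e := by
  obtain ⟨y, hy, hyc, u, hu, rfl⟩ := g.rowL hk hl (n := j') hx hc
  have hwC := g.W_C hk hl hw
  have hd := g.comm_CQ hwC hx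
  set d := w * (y * u) * w⁻¹ * (y * u)⁻¹ with hddef
  have hd' := g.comm_CQ hwC hy
  -- `d = v' d'`
  have hv1 := g.W_comm hk hl hw hu
  have hv2 : y * (w * u * w⁻¹ * u⁻¹) * y⁻¹ ∈ V := g.conj_V hy hv1
  have hd1 : d = (w * y * w⁻¹ * y⁻¹) * (y * (w * u * w⁻¹ * u⁻¹) * y⁻¹) := by rw [hddef]; group
  obtain ⟨e, he, f, hf, hef⟩ := g.VE_mul (g.VE₁ i j j' hj) hv2
  refine ⟨d * e⁻¹, ?_, e, he, by group⟩
  rw [mem_inf, mem_inf]
  refine ⟨⟨mul_mem hd.1 (inv_mem (mem_inf.1 he).2), ?_⟩, mul_mem hd.2 (inv_mem (g.V_le_C (mem_inf.1 he).1))⟩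
  have h1 : d * e⁻¹ = (w * y * w⁻¹ * y⁻¹) * f := by
    rw [hd1, hef, g.comm e (mem_inf.1 he).1 f (mem_inf.1 hf).1]; group
  rw [h1]
  exact mul_mem hd'.1 (mem_inf.1 hf).2

/-- `C_{Q_{ij}}(V)` is the product of its row part, its column part and `V ⊓ Q_{ij}` -/
theorem D_mul {i k : I} {j l : J} (hk : k ≠ i) (hl : l ≠ j) {d : G} (hd : d ∈ Q i j)
    (hdC : d ∈ centralizer (V : Set G)) :
    ∃ a ∈ Q i j ⊓ Q i l ⊓ centralizer (V : Set G), ∃ b ∈ Q i j ⊓ Q k j ⊓ centralizer (V : Set G),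
      ∃ e ∈ V ⊓ Q i j, d = a * b * e := by
  obtain ⟨k2, h1, h2⟩ := g.threeI i k
  obtain ⟨l2, h3, h4⟩ := g.threeJ j l
  obtain ⟨x, hx, hxR⟩ := g.tran i j k l k2 l2 hk h1 hl h3
  have hxQ := g.conj x _ _ _ _ hxR
  have h5 := g.D_le h2 h4 i j (mem_inf.2 ⟨hd, hdC⟩)
  obtain ⟨v, hv, b₁, hb₁, b₂, hb₂, hdec⟩ := g.mem_W.1 h5
  rw [mem_inf] at hb₁ hb₂
  set b₃ := x⁻¹ * b₂ * x with hb₃def
  have hb₃ : b₃ ∈ Q k l := mem_of_cj' hxQ hb₂.1
  have hb₃C : b₃ ∈ centralizer (V : Set G) := by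
    have := g.conj_C ((normalizer (V : Set G)).inv_mem (g.Q_V i j hx)) hb₂.2
    rwa [inv_inv] at this
  have hb₂' : b₂ = x * b₃ * x⁻¹ := by rw [hb₃def]; group
  -- `c = [b₃⁻¹, x]`
  have hc := g.comm_CQ ((centralizer (V : Set G)).inv_mem hb₃C) hx
  set c := b₃⁻¹ * x * b₃⁻¹⁻¹ * x⁻¹ with hcdef
  have h6 : (b₁ * b₃) * c = b₁ * b₂ := by rw [hcdef, hb₂']; group
  have h7 : d * c⁻¹ * (b₁ * b₃)⁻¹ ∈ V := by
    have e : d * c⁻¹ * (b₁ * b₃)⁻¹ = v * ((b₁ * b₃) * c * c⁻¹ * (b₁ * b₃)⁻¹) := by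
      rw [hdec, h6]; group
    rw [e]
    have e2 : (b₁ * b₃) * c * c⁻¹ * (b₁ * b₃)⁻¹ = 1 := by group
    rw [e2, mul_one]; exact hv
  have h8 := g.DD_V hk hl (mul_mem hd (inv_mem hc.1)) (mul_mem hdC (inv_mem hc.2))
    (inv_mem (mul_mem hb₁.1 hb₃)) h7
  -- `d = e c`
  have he : d * c⁻¹ ∈ V ⊓ Q i j := mem_inf.2 ⟨h8.1, mul_mem hd (inv_mem hc.1)⟩
  -- split `x`
  obtain ⟨x', hx', hx'c, hx''⟩ := g.split hx
  have hx''Q : x'⁻¹ * x ∈ Q i j := mul_mem (inv_mem hx') hx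
  have hwb : b₃⁻¹ ∈ g.W hk hl := inv_mem (g.D_le_W' hk hl (mem_inf.2 ⟨hb₃, hb₃C⟩))
  obtain ⟨a, ha, e₁, he₁, hae⟩ := g.comm_row hk hl hl.symm hx' hx'c hwb
  have hwb' : b₃⁻¹ ∈ g.transpose.W hl hk := by
    obtain ⟨v, hv, a, ha, b, hb, h⟩ := hwb
    exact ⟨v, hv, a, ha, b, hb, h⟩
  obtain ⟨b, hb, e₂, he₂, hbe⟩ := g.transpose.comm_row hl hk hk.symm hx''Q hx'' hwb'
  rw [mem_inf, mem_inf] at ha hb
  rw [mem_inf] at he₁ he₂
  -- `c = [b₃⁻¹, x'] x' [b₃⁻¹, x''] x'⁻¹`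
  have h9 : c = (b₃⁻¹ * x' * b₃⁻¹⁻¹ * x'⁻¹) * (x' * (b₃⁻¹ * (x'⁻¹ * x) * b₃⁻¹⁻¹ * (x'⁻¹ * x)⁻¹) * x'⁻¹) := by
    rw [hcdef]; group
  have h10 := g.QQ i j x' hx' (b * e₂) (mul_mem hb.1.1 he₂.2)
  have h10V := g.R_le i j h10
  set r := x' * (b * e₂) * x'⁻¹ * (b * e₂)⁻¹ with hrdef
  have h11 : c = a * e₁ * r * b * e₂ := by
    rw [h9, hae, hbe, hrdef]; group
  have h12 : d = (d * c⁻¹) * (a * e₁ * r * b * e₂) := by rw [← h11]; group
  have hrQ : r ∈ Q i j := g.R_Q i j h10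
  refine ⟨a, mem_inf.2 ⟨mem_inf.2 ha.1, ha.2⟩, b, mem_inf.2 ⟨mem_inf.2 hb.1, hb.2⟩,
    (d * c⁻¹) * (e₁ * r) * e₂, mem_inf.2 ⟨mul_mem (mul_mem h8.1 (mul_mem he₁.1 h10V)) he₂.1,
      mul_mem (mul_mem (mem_inf.1 he).2 (mul_mem he₁.2 hrQ)) he₂.2⟩, ?_⟩
  have c1 : a * (d * c⁻¹) = (d * c⁻¹) * a := g.C_V ha.2 h8.1
  have c2 : b * (d * c⁻¹) = (d * c⁻¹) * b := g.C_V hb.2 h8.1
  have c3 : b * (e₁ * r) = (e₁ * r) * b := g.C_V hb.2 (mul_mem he₁.1 h10V)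
  calc d = (d * c⁻¹) * (a * e₁ * r * b * e₂) := h12
    _ = ((d * c⁻¹) * a) * ((e₁ * r) * b) * e₂ := by group
    _ = (a * (d * c⁻¹)) * (b * (e₁ * r)) * e₂ := by rw [c1, c3]
    _ = a * ((d * c⁻¹) * b) * (e₁ * r) * e₂ := by group
    _ = a * (b * (d * c⁻¹)) * (e₁ * r) * e₂ := by rw [← c2]
    _ = a * b * (d * c⁻¹ * (e₁ * r) * e₂) := by group

/-- `L/V` is abelian: reordering -/
theorem W_swap {i k : I} {j l : J} (hk : k ≠ i) (hl : l ≠ j) {x y : G} (hx : x ∈ g.W hk hl)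
    (hy : y ∈ g.W hk hl) : ∃ v ∈ V, x * y = y * x * v := by
  have h := g.W_comm hk hl (inv_mem hx) (inv_mem hy)
  refine ⟨x⁻¹ * y⁻¹ * x * y, by simpa using h, by group⟩

/-- (c) `Q'_{ij} = (Q_{ij} ⊓ Q_{ij'}) C_{Q_{ij}}(V)` -/
theorem row_mul {i : I} {j j' : J} (hj : j' ≠ j) {x : G} (hx : x ∈ Q i j)
    (hc : ∀ l, cj x (R i l) = R i l) : ∃ f ∈ Q i j ⊓ Q i j', ∃ d ∈ Q i j ⊓ centralizer (V : Set G),
      x = f * d := by
  obtain ⟨k, hk⟩ := g.exists_ne_row i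
  obtain ⟨y, hy, hyc, w, hw, hxy⟩ := g.rowL hk hj (n := j') hx hc
  obtain ⟨v, hv, a, ha, b, hb, hdec⟩ := g.mem_W.1 hw
  rw [mem_inf] at ha hb
  obtain ⟨a₁, ha₁, a₂, ha₂, e, he, hae⟩ := g.D_mul hk hj ha.1 ha.2
  obtain ⟨b₂, hb₂, b₁, hb₁, e', he', hbe⟩ := g.D_mul hk.symm hj.symm hb.1 hb.2
  rw [mem_inf, mem_inf] at ha₁ ha₂ hb₁ hb₂
  rw [mem_inf] at he he'
  -- all in `L`
  have La₁ : a₁ ∈ g.W hk hj := g.D_le_W hk hj (mem_inf.2 ⟨ha₁.1.1, ha₁.2⟩)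
  have La₂ : a₂ ∈ g.W hk hj := g.D_le_W hk hj (mem_inf.2 ⟨ha₂.1.1, ha₂.2⟩)
  have Lb₁ : b₁ ∈ g.W hk hj := g.D_le_W' hk hj (mem_inf.2 ⟨hb₁.1.1, hb₁.2⟩)
  have Lb₂ : b₂ ∈ g.W hk hj := g.D_le_W' hk hj (mem_inf.2 ⟨hb₂.1.1, hb₂.2⟩)
  obtain ⟨w1, hw1, s1⟩ := g.W_swap hk hj Lb₂ Lb₁
  obtain ⟨w2, hw2, s2⟩ := g.W_swap hk hj La₂ Lb₁
  obtain ⟨w3, hw3, s3⟩ := g.W_swap hk hj La₂ Lb₂
  -- `w = a₁ b₁ b₂ a₂ v''`
  have cV : ∀ {c u : G}, c ∈ g.W hk hj → u ∈ V → c * u = u * c := fun hc hu => g.C_V (g.W_C hk hj hc) hu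
  have hw' : w = a₁ * b₁ * b₂ * a₂ * (v * e * e' * w1 * w2 * w3) := by
    have VV : ∀ {x y : G}, x ∈ V → y ∈ V → x * y = y * x := fun hx hy => g.comm _ hx _ hy
    calc w = v * (a₁ * a₂ * e) * (b₂ * b₁ * e') := by rw [hdec, hae, hbe]
      _ = v * (a₁ * a₂) * (e * (b₂ * b₁)) * e' := by group
      _ = v * (a₁ * a₂) * ((b₂ * b₁) * e) * e' := by rw [cV (mul_mem Lb₂ Lb₁) he.1]
      _ = v * (a₁ * a₂ * b₂ * b₁) * e * e' := by group
      _ = (a₁ * a₂ * b₂ * b₁) * v * e * e' := by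
          rw [cV (mul_mem (mul_mem (mul_mem La₁ La₂) Lb₂) Lb₁) hv]
      _ = a₁ * a₂ * (b₂ * b₁) * v * e * e' := by group
      _ = a₁ * a₂ * (b₁ * b₂ * w1) * v * e * e' := by rw [s1]
      _ = a₁ * (a₂ * b₁) * b₂ * w1 * v * e * e' := by group
      _ = a₁ * (b₁ * a₂ * w2) * b₂ * w1 * v * e * e' := by rw [s2]
      _ = a₁ * b₁ * a₂ * (w2 * b₂) * w1 * v * e * e' := by group
      _ = a₁ * b₁ * a₂ * (b₂ * w2) * w1 * v * e * e' := by rw [cV Lb₂ hw2]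
      _ = a₁ * b₁ * (a₂ * b₂) * w2 * w1 * v * e * e' := by group
      _ = a₁ * b₁ * (b₂ * a₂ * w3) * w2 * w1 * v * e * e' := by rw [s3]
      _ = a₁ * b₁ * b₂ * a₂ * ((w3 * (w2 * w1)) * (v * e * e')) := by group
      _ = a₁ * b₁ * b₂ * a₂ * ((v * e * e') * (w3 * (w2 * w1))) := by
          rw [VV (mul_mem hw3 (mul_mem hw2 hw1)) (mul_mem (mul_mem hv he.1) he'.1)]
      _ = a₁ * b₁ * b₂ * a₂ * (v * e * e' * (w3 * (w2 * w1))) := by group
      _ = a₁ * b₁ * b₂ * a₂ * (v * e * e' * (w1 * w2 * w3)) := by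
          rw [VV hw2 hw1, VV hw3 (mul_mem hw1 hw2)]
      _ = _ := by group
  set u := v * e * e' * w1 * w2 * w3 with hu
  have huV : u ∈ V := mul_mem (mul_mem (mul_mem (mul_mem (mul_mem hv he.1) he'.1) hw1) hw2) hw3
  obtain ⟨er, her, ep, hep, huer⟩ := g.VE_mul (g.VE₁ i j' j hj) huV
  rw [mem_inf] at her hep
  -- `x₁ = x (a₂ ep)⁻¹ = y₁ b₂`
  set y₁ := y * (a₁ * b₁ * er) with hy₁
  have hy₁Q : y₁ ∈ Q i j' := mul_mem hy (mul_mem (mul_mem ha₁.1.2 hb₁.1.2) her.2)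
  have hx₁ : x = y₁ * b₂ * (a₂ * ep) := by
    rw [hxy, hw', huer, hy₁]
    have c1 : (b₂ * a₂) * er = er * (b₂ * a₂) := cV (mul_mem Lb₂ La₂) her.1
    calc y * (a₁ * b₁ * b₂ * a₂ * (er * ep)) = y * (a₁ * b₁ * ((b₂ * a₂) * er) * ep) := by group
      _ = y * (a₁ * b₁ * (er * (b₂ * a₂)) * ep) := by rw [c1]
      _ = _ := by group
  have ha₂ep : a₂ * ep ∈ Q i j := mul_mem ha₂.1.1 hep.2
  have ha₂epC : a₂ * ep ∈ centralizer (V : Set G) := mul_mem ha₂.2 (g.V_le_C hep.1)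
  set x₁ := y₁ * b₂ with hx₁def
  have hx₁Q : x₁ ∈ Q i j := by
    have : x₁ = x * (a₂ * ep)⁻¹ := by rw [hx₁]; group
    rw [this]; exact mul_mem hx (inv_mem ha₂ep)
  -- squares
  have sq : y₁⁻¹ * b₂ * y₁ * b₂ ∈ V := by
    have h1 := g.R_le i j (g.Qsq i j x₁ hx₁Q)
    have h2 := g.R_le i j' (g.Qsq i j' y₁ hy₁Q)
    have e : y₁⁻¹ * b₂ * y₁ * b₂ = (y₁ * y₁)⁻¹ * (x₁ * x₁) := by rw [hx₁def]; group
    rw [e]; exact mul_mem (inv_mem h2) h1
  -- `y₁` fixes the columns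
  have hy₁c : ∀ l, cj y₁ (R i l) = R i l := by
    intro l
    have hC : a₁ * b₁ * er ∈ centralizer (V : Set G) := mul_mem (mul_mem ha₁.2 hb₁.2) (g.V_le_C her.1)
    rw [hy₁, cj_mul, g.C_R hC, hyc]
  have hy₁c' : ∀ l, cj y₁⁻¹ (R i l) = R i l := fun l => cj_inv_of (hy₁c l)
  have hy₁Q' : y₁⁻¹ ∈ Q i j' := (Q i j').inv_mem hy₁Q
  obtain ⟨σ, hσi, hσ⟩ := g.fixc hy₁Q' hy₁c'
  by_cases hσk : σ k = k
  · -- `y₁` centralises `V`
    have h1 : cj y₁⁻¹ (R k j) = R k j := by rw [hσ k j, hσk]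
    have h2 : y₁⁻¹ ∈ centralizer (V : Set G) := g.fix i j' k j hk hj.symm _ hy₁Q' h1
    have h3 : y₁ ∈ centralizer (V : Set G) := by
      have := (centralizer (V : Set G)).inv_mem h2
      rwa [inv_inv] at this
    refine ⟨1, one_mem _, x, mem_inf.2 ⟨hx, ?_⟩, (one_mul x).symm⟩
    rw [hx₁]
    exact mul_mem (mul_mem h3 hb₂.2) ha₂epC
  · have h1 : cj y₁⁻¹ (Q k j) = Q (σ k) j := g.conj _ _ _ _ _ (hσ k j)
    have h2 : y₁⁻¹ * b₂ * y₁ ∈ Q (σ k) j := by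
      have := mem_of_cj h1 hb₂.1.2
      rwa [inv_inv] at this
    have h2C : y₁⁻¹ * b₂ * y₁ ∈ centralizer (V : Set G) := by
      have := g.conj_C (g.Q_V i j' hy₁Q') hb₂.2
      rwa [inv_inv] at this
    have h3 := g.DD_V (i := σ k) (k := k) (j := j) (l := j') (fun h => hσk h.symm) hj h2 h2C hb₂.1.1
      (by have e : y₁⁻¹ * b₂ * y₁ * b₂ = (y₁⁻¹ * b₂ * y₁) * b₂ := by group
          rw [← e]; exact sq)
    obtain ⟨er', her', ep', hep', hb⟩ := g.VE_mul (g.VE₁ i j' j hj) h3.2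
    rw [mem_inf] at her' hep'
    refine ⟨x₁ * ep'⁻¹, mem_inf.2 ⟨mul_mem hx₁Q (inv_mem hep'.2), ?_⟩, ep' * (a₂ * ep),
      mem_inf.2 ⟨mul_mem hep'.2 ha₂ep, mul_mem (g.V_le_C hep'.1) ha₂epC⟩, ?_⟩
    · have e : x₁ * ep'⁻¹ = y₁ * er' := by rw [hx₁def, hb]; group
      rw [e]; exact mul_mem hy₁Q her'.2
    · rw [hx₁]; group

/-- `Q i j ⊓ Q i l` is independent of `l` -/
theorem inter_le {i : I} {j l : J} (hl : l ≠ j) (m : J) : Q i j ⊓ Q i l ≤ Q i m := by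
  intro x hx
  rw [mem_inf] at hx
  by_cases hm : m = j
  · rw [hm]; exact hx.1
  obtain ⟨k, hk⟩ := g.exists_ne_row i
  obtain ⟨y, hy, hyR⟩ := g.tran i j k l k m hk hk hl hm
  obtain ⟨σ, τ, h1, h2, h3⟩ := g.perm i j y hy
  have h4 : cj y (R i l) = R i m := by
    have h5 := h3 k l
    rw [hyR] at h5
    rw [h3 i l, h1, (g.inj h5).2]
  have h5 := mem_of_cj (g.conj y _ _ _ _ h4) hx.2
  have h6 := g.row i j m (g.QQ i j y hy x hx.1)
  have e : x = (y * x * y⁻¹ * x⁻¹)⁻¹ * (y * x * y⁻¹) := by group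
  rw [e]
  exact mul_mem (inv_mem h6) h5

theorem row_eq (i : I) {j l : J} (hl : j ≠ l) : Q i j ⊓ Q i l = rowG Q i := by
  apply le_antisymm
  · exact le_iInf fun m => g.inter_le hl.symm m
  · exact le_inf (iInf_le _ j) (iInf_le _ l)

theorem rowG_le (i : I) (j : J) : rowG Q i ≤ Q i j := iInf_le _ j

theorem R_row (i : I) (j : J) : R i j ≤ rowG Q i := le_iInf fun m => g.row i j m

theorem rowG_comm_sq [Nonempty J] {i : I} {x y : G} (hx : x ∈ rowG Q i) (hy : y ∈ rowG Q i) :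
    x * y = y * x ∧ x * x = 1 := by
  obtain ⟨j⟩ := ‹Nonempty J›
  obtain ⟨l, hl⟩ := g.exists_ne_col j
  have hd : R i j ⊓ R i l = ⊥ := by
    by_contra h
    exact hl (g.disj i j i l h).2.symm
  constructor
  · have h1 := g.QQ i j x (g.rowG_le i j hx) y (g.rowG_le i j hy)
    have h2 := g.QQ i l x (g.rowG_le i l hx) y (g.rowG_le i l hy)
    have h3 : x * y * x⁻¹ * y⁻¹ ∈ R i j ⊓ R i l := mem_inf.2 ⟨h1, h2⟩
    rw [hd, mem_bot] at h3
    calc x * y = (x * y * x⁻¹ * y⁻¹) * (y * x) := by group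
      _ = y * x := by rw [h3, one_mul]
  · have h3 : x * x ∈ R i j ⊓ R i l := mem_inf.2 ⟨g.Qsq i j x (g.rowG_le i j hx), g.Qsq i l x (g.rowG_le i l hx)⟩
    rw [hd, mem_bot] at h3
    exact h3

theorem rowG_fix {i : I} {x : G} (hx : x ∈ rowG Q i) (l : J) : cj x (R i l) = R i l :=
  g.fix_R (g.rowG_le i l hx)

/-- `C_{Q i j}(V)` is in the product -/
theorem D_rc {i : I} {j : J} {x : G} (hx : x ∈ Q i j) (hxC : x ∈ centralizer (V : Set G)) :
    ∃ a ∈ rowG Q i, ∃ b ∈ colG Q j, a ∈ centralizer (V : Set G) ∧ b ∈ centralizer (V : Set G) ∧ x = a * b := by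
  obtain ⟨k, hk⟩ := g.exists_ne_row i
  obtain ⟨l, hl⟩ := g.exists_ne_col j
  obtain ⟨a, ha, b, hb, e, he, h⟩ := g.D_mul hk hl hx hxC
  rw [mem_inf] at ha hb
  have ha' : a ∈ rowG Q i := by rw [← g.row_eq i hl.symm]; exact ha.1
  have hb' : b ∈ colG Q j := by
    have := g.transpose.row_eq j hk.symm
    change Q i j ⊓ Q k j = colG Q j at this
    rw [← this]; exact hb.1
  have h1 := g.EE i j k l hk hl he
  have hRV : ∀ {i : I} {j : J} {x : G}, x ∈ R i j → x ∈ V := fun h => g.R_le _ _ h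
  have hs : R i j ⊔ R i l ≤ V := sup_le (g.R_le _ _) (g.R_le _ _)
  obtain ⟨e₁, he₁, e₂, he₂, hee⟩ := mem_sup_comm (fun a ha b hb => g.comm a (hs ha) b (g.R_le _ _ hb)) h1
  have he₁' : e₁ ∈ rowG Q i := (sup_le (g.R_row i j) (g.R_row i l)) he₁
  have he₂' : e₂ ∈ colG Q j := g.transpose.R_row j k he₂
  have he₁V := hs he₁
  have he₂V := g.R_le _ _ he₂
  refine ⟨a * e₁, mul_mem ha' he₁', b * e₂, mul_mem hb' he₂', mul_mem ha.2 (g.V_le_C he₁V),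
    mul_mem hb.2 (g.V_le_C he₂V), ?_⟩
  rw [h, hee]
  have c : b * e₁ = e₁ * b := g.C_V hb.2 he₁V
  calc a * b * (e₁ * e₂) = a * (b * e₁) * e₂ := by group
    _ = a * (e₁ * b) * e₂ := by rw [c]
    _ = _ := by group

/-- a subgroup of `Q i j` containing `R i j` is normal -/
theorem mul_of_sup {i : I} {j : J} {A B : Subgroup G} (hA : A ≤ Q i j) (hB : B ≤ Q i j) (hRB : R i j ≤ B)
    {x : G} (hx : x ∈ A ⊔ B) : ∃ a ∈ A, ∃ b ∈ B, x = a * b := by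
  have hn : A ≤ normalizer (B : Set G) := by
    have h1 : ∀ a ∈ Q i j, ∀ b ∈ B, a * b * a⁻¹ ∈ B := by
      intro a ha b hb
      have h2 := hRB (g.QQ i j a ha b (hB hb))
      have e : a * b * a⁻¹ = (a * b * a⁻¹ * b⁻¹) * b := by group
      rw [e]; exact mul_mem h2 hb
    intro a ha
    rw [mem_normalizer_iff]
    intro b
    constructor
    · intro hb; exact h1 a (hA ha) b hb
    · intro hb
      have := h1 a⁻¹ (inv_mem (hA ha)) _ hb
      have e : a⁻¹ * (a * b * a⁻¹) * a⁻¹⁻¹ = b := by group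
      rwa [e] at this
  have h1 := Subgroup.coe_mul_of_left_le_normalizer_right A B hn
  rw [← SetLike.mem_coe, h1, Set.mem_mul] at hx
  obtain ⟨a, ha, b, hb, rfl⟩ := hx
  exact ⟨a, ha, b, hb, rfl⟩

theorem Q_sup (i : I) (j : J) : Q i j = rowG Q i ⊔ colG Q j := by
  apply le_antisymm
  · intro x hx
    obtain ⟨k, hk⟩ := g.exists_ne_row i
    obtain ⟨l, hl⟩ := g.exists_ne_col j
    obtain ⟨x', hx', hc, hr⟩ := g.split hx
    obtain ⟨f, hf, d, hd, h1⟩ := g.row_mul hl hx' hc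
    obtain ⟨f', hf', d', hd', h2⟩ := g.transpose.row_mul (i := j) (j := i) hk (mul_mem (inv_mem hx') hx) hr
    rw [mem_inf] at hd hd'
    have hf1 : f ∈ rowG Q i := by rw [← g.row_eq i hl.symm]; exact hf
    have hf2 : f' ∈ colG Q j := by
      have := g.transpose.row_eq j hk.symm
      change Q i j ⊓ Q k j = colG Q j at this
      rw [← this]; exact hf'
    obtain ⟨a, ha, b, hb, -, -, h3⟩ := g.D_rc hd.1 hd.2
    obtain ⟨a', ha', b', hb', -, -, h4⟩ := g.D_rc hd'.1 hd'.2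
    have e : x = x' * (x'⁻¹ * x) := by group
    rw [e, h2, h1, h3, h4]
    have hA : rowG Q i ≤ rowG Q i ⊔ colG Q j := le_sup_left
    have hB : colG Q j ≤ rowG Q i ⊔ colG Q j := le_sup_right
    exact mul_mem (mul_mem (hA hf1) (mul_mem (hA ha) (hB hb))) (mul_mem (hB hf2) (mul_mem (hA ha') (hB hb')))
  · exact sup_le (iInf_le _ j) (iInf_le _ i)

theorem Q_mul {i : I} {j : J} {x : G} (hx : x ∈ Q i j) : ∃ a ∈ rowG Q i, ∃ b ∈ colG Q j, x = a * b := by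
  rw [g.Q_sup] at hx
  exact g.mul_of_sup (g.rowG_le i j) (g.transpose.rowG_le j i) (g.transpose.R_row j i) hx

theorem inf_eq [Nonempty I] [Nonempty J] (i : I) (j : J) : rowG Q i ⊓ colG Q j = R i j := by
  apply le_antisymm
  · intro x hx
    rw [mem_inf] at hx
    apply g.cen i j x (g.rowG_le i j hx.1)
    intro z hz
    obtain ⟨a, ha, b, hb, rfl⟩ := g.Q_mul hz
    have h1 := (g.rowG_comm_sq hx.1 ha).1
    have h2 := (g.transpose.rowG_comm_sq hx.2 hb).1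
    calc x * (a * b) = (x * a) * b := by group
      _ = a * (x * b) := by rw [h1]; group
      _ = a * b * x := by rw [h2]; group
  · exact le_inf (g.R_row i j) (g.transpose.R_row j i)

theorem row_cent [Nonempty I] [Nonempty J] {i : I} {j : J} {x : G} (hx : x ∈ Q i j)
    (h : ∀ y ∈ rowG Q i, x * y = y * x) : x ∈ rowG Q i := by
  obtain ⟨a, ha, b, hb, rfl⟩ := g.Q_mul hx
  have hbR : b ∈ R i j := by
    apply g.cen i j b (g.transpose.rowG_le j i hb)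
    intro z hz
    obtain ⟨a', ha', b', hb', rfl⟩ := g.Q_mul hz
    have h1 := (g.transpose.rowG_comm_sq hb hb').1
    have h2 : b * a' = a' * b := by
      have h3 := h a' ha'
      have h4 := (g.rowG_comm_sq ha ha').1
      have h5 : a * (b * a') = a * (a' * b) := by
        calc a * (b * a') = a * b * a' := by group
          _ = a' * (a * b) := h3
          _ = (a' * a) * b := by group
          _ = a * (a' * b) := by rw [← h4]; group
      exact mul_left_cancel h5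
    calc b * (a' * b') = (b * a') * b' := by group
      _ = a' * (b * b') := by rw [h2]; group
      _ = a' * b' * b := by rw [h1]; group
  exact mul_mem ha (g.R_row i j hbR)

theorem row_row [Nonempty I] [Nonempty J] {i k : I} (h : i ≠ k) {x y : G} (hx : x ∈ rowG Q i)
    (hxC : x ∈ centralizer (V : Set G)) (hy : y ∈ rowG Q k) (hyC : y ∈ centralizer (V : Set G)) :
    x * y = y * x := by
  obtain ⟨j⟩ := ‹Nonempty J›
  obtain ⟨l, hl⟩ := g.exists_ne_col j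
  have h1 : ∀ j, x * y * x⁻¹ * y⁻¹ ∈ Q i j ⊓ Q k j := by
    intro j
    refine mem_inf.2 ⟨?_, (g.comm_CQ hxC (g.rowG_le k j hy)).1⟩
    have := (g.comm_CQ hyC (g.rowG_le i j hx)).1
    have e : x * y * x⁻¹ * y⁻¹ = (y * x * y⁻¹ * x⁻¹)⁻¹ := by group
    rw [e]; exact inv_mem this
  have h2 : ∀ j, x * y * x⁻¹ * y⁻¹ ∈ R i j := by
    intro j
    have : Nonempty J := ⟨j⟩
    have h3 := g.transpose.row_eq j h
    change Q i j ⊓ Q k j = colG Q j at h3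
    rw [← g.inf_eq i j, mem_inf, ← h3]
    refine ⟨?_, h1 j⟩
    rw [rowG, mem_iInf]
    exact fun j => (mem_inf.1 (h1 j)).1
  have h4 : x * y * x⁻¹ * y⁻¹ ∈ R i j ⊓ R i l := mem_inf.2 ⟨h2 j, h2 l⟩
  have hd : R i j ⊓ R i l = ⊥ := by
    by_contra h
    exact hl (g.disj i j i l h).2.symm
  rw [hd, mem_bot] at h4
  calc x * y = (x * y * x⁻¹ * y⁻¹) * (y * x) := by group
    _ = y * x := by rw [h4, one_mul]

theorem opp' {i : I} {j : J} {x : G} (hx : x ∈ Q i j) (hxC : x ∈ centralizer (V : Set G))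
    (h : ∀ k l, k ≠ i → l ≠ j → ∀ y ∈ Q k l, y ∈ centralizer (V : Set G) → x * y = y * x)
    {y : G} (hy : y ∈ Q i j) (hyC : y ∈ centralizer (V : Set G)) : x * y = y * x := by
  obtain ⟨k, hk⟩ := g.exists_ne_row i
  obtain ⟨l, hl⟩ := g.exists_ne_col j
  obtain ⟨m, hm, hmk⟩ := g.threeI i k
  obtain ⟨n, hn, hnl⟩ := g.threeJ j l
  obtain ⟨v, hv, a, ha, b, hb, rfl⟩ := g.D_le hmk hnl i j (mem_inf.2 ⟨hy, hyC⟩)
  rw [mem_inf] at ha hb
  have h1 := h k l hk hl a ha.1 ha.2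
  have h2 := h m n hm hn b hb.1 hb.2
  have h3 := g.C_V hxC hv
  calc x * (v * a * b) = (x * v) * a * b := by group
    _ = v * (x * a) * b := by rw [h3]; group
    _ = v * a * (x * b) := by rw [h1]; group
    _ = v * a * b * x := by rw [h2]; group

/-- **(I1).** -/
theorem rc [Nonempty I] [Nonempty J] : RC V R Q where
  row_eq i j l h := g.row_eq i h
  col_eq i k j h := g.transpose.row_eq j h
  sup := g.Q_sup
  mul i j x hx := g.Q_mul hx
  inf := g.inf_eq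
  R_row := g.R_row
  R_col i j := g.transpose.R_row j i
  row_comm i x hx y hy := (g.rowG_comm_sq hx hy).1
  col_comm j x hx y hy := (g.transpose.rowG_comm_sq hx hy).1
  row_sq i x hx := (g.rowG_comm_sq hx hx).2
  col_sq j x hx := (g.transpose.rowG_comm_sq hx hx).2
  row_cent i j x hx h := g.row_cent hx h
  col_cent i j x hx h := g.transpose.row_cent (i := j) (j := i) hx h
  row_fix i x hx k l := by
    obtain ⟨j⟩ := ‹Nonempty J›
    obtain ⟨σ, -, h⟩ := g.fixc (g.rowG_le i j hx) (g.rowG_fix hx)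
    exact ⟨σ k, h k l⟩
  col_fix j x hx k l := by
    obtain ⟨i⟩ := ‹Nonempty I›
    obtain ⟨σ, -, h⟩ := g.transpose.fixc (g.transpose.rowG_le j i hx) (g.transpose.rowG_fix hx)
    exact ⟨σ l, h l k⟩
  row_row i k h x hx hxC y hy hyC := g.row_row h hx hxC hy hyC
  col_col j l h x hx hxC y hy hyC := g.transpose.row_row h hx hxC hy hyC
  cenV i j x hx hxC := g.D_rc hx hxC
  opp i j x hx hxC h y hy hyC := g.opp' hx hxC h hy hyC

end Grid

end Cfsg.Agent.Omega.NO1.Gamma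

end

section


/-!
# Type (gamma): `Gin0 → Gin`
-/

set_option autoImplicit false
set_option linter.unusedVariables false
set_option linter.unusedSectionVars false

open Subgroup
open scoped Pointwise

namespace Cfsg.Agent.Omega.NO1.Gamma

open Cfsg.Agent.Omega.NO1.Beta.Meet (cj mem_cj conj_mem_cj cj_mul cj_inj cj_eq_of_comm cj_eq_of_mem
  mem_normalizer_of_cj cj_of_mem_normalizer)

variable {G : Type*} [Group G] {I J : Type*}

theorem cj_inf' (c : G) (H K : Subgroup G) : cj c (H ⊓ K) = cj c H ⊓ cj c K := by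
  ext x
  simp only [mem_inf, mem_cj]

namespace Grid

variable {V : Subgroup G} {R Q : I → J → Subgroup G} (g : Grid V R Q)
include g

/-- a permutation of the points which maps rows to rows maps row groups to row groups -/
theorem cj_rowG {c : G} {σ : I → I} {τ : J → J} (h : ∀ i j, cj c (R i j) = R (σ i) (τ j)) [Nonempty J]
    (i : I) : cj c (rowG Q i) = rowG Q (σ i) := by
  obtain ⟨j⟩ := ‹Nonempty J›
  obtain ⟨l, hl⟩ := g.exists_ne_col j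
  have h1 : τ j ≠ τ l := by
    intro he
    apply hl
    have h2 : cj c (R i j) = cj c (R i l) := by rw [h, h, he]
    exact (g.inj (cj_inj h2)).2.symm
  rw [← g.row_eq i hl.symm, cj_inf', g.conj c _ _ _ _ (h i j), g.conj c _ _ _ _ (h i l), g.row_eq _ h1]

/-- a permutation of the points which interchanges rows and columns -/
theorem cj_rowG_swap {c : G} {σ : J → I} {τ : I → J} (h : ∀ i j, cj c (R i j) = R (σ j) (τ i)) [Nonempty J]
    (i : I) : cj c (rowG Q i) = colG Q (τ i) := by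
  obtain ⟨j⟩ := ‹Nonempty J›
  obtain ⟨l, hl⟩ := g.exists_ne_col j
  have h1 : σ j ≠ σ l := by
    intro he
    apply hl
    have h2 : cj c (R i j) = cj c (R i l) := by rw [h, h, he]
    exact (g.inj (cj_inj h2)).2.symm
  have h2 := g.transpose.row_eq (τ i) h1
  change Q (σ j) (τ i) ⊓ Q (σ l) (τ i) = colG Q (τ i) at h2
  rw [← g.row_eq i hl.symm, cj_inf', g.conj c _ _ _ _ (h i j), g.conj c _ _ _ _ (h i l), h2]

end Grid

namespace Gin0

variable {F : Type*} [Field F] {S : Sylow 2 G} {V : Subgroup G} {R Q : I → J → Subgroup G} {i0 i1 : I}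
  {j0 j1 : J} {v : F → F → F → F → G} {p p' : G → F}

/-- transposition -/
theorem transpose (h : Gin0 F S V R Q i0 i1 j0 j1 v p p') :
    Gin0 F S V (fun j i => R i j) (fun j i => Q i j) j0 j1 i0 i1 (fun a b c d => v a c b d) p' p where
  grid := h.grid.transpose
  hi := h.hj
  hj := h.hi
  two := h.two
  four := h.four
  v_add a b c d a' b' c' d' := h.v_add a c b d a' c' b' d'
  v_inj a b c d e := by
    obtain ⟨h1, h2, h3, h4⟩ := h.v_inj a c b d e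
    exact ⟨h1, h3, h2, h4⟩
  v_mem a b c d := h.v_mem a c b d
  v_surj x hx := by
    obtain ⟨a, b, c, d, e⟩ := h.v_surj x hx
    exact ⟨a, c, b, d, e⟩
  R00 := h.R00
  R01 := h.R10
  R10 := h.R01
  R11 := h.R11
  V_Q a b c d := h.V_Q a c b d
  act x hx a b c d := by
    rw [h.act x hx a c b d]
    congr 1
    ring
  p_surj s t := by
    obtain ⟨x, hx, h1, h2⟩ := h.p_surj t s
    exact ⟨x, hx, h2, h1⟩
  act' s t := by
    obtain ⟨x, hx, h1⟩ := h.act' t s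
    refine ⟨x, hx, fun a b c d => ?_⟩
    rw [h1 a c b d]
    congr 1
    ring
  tor y hy := by
    obtain ⟨k, hk, h1⟩ := h.tor y⁻¹ (inv_ne_zero hy)
    refine ⟨k, hk, fun a b c d => ?_⟩
    rw [h1 a c b d, inv_pow, inv_inv]
  swap := by
    obtain ⟨s, hs, σ, τ, h1⟩ := h.swap
    exact ⟨s, hs, τ, σ, fun j i => h1 i j⟩
  norm g hg := by
    rcases h.norm g hg with ⟨σ, τ, h1⟩ | ⟨σ, τ, h1⟩
    · exact Or.inl ⟨τ, σ, fun j i => h1 i j⟩
    · exact Or.inr ⟨τ, σ, fun j i => h1 i j⟩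
  actU g hg h1 h2 h3 := by
    refine h.actU g hg h1 (fun b c => h2 c b) fun d => ?_
    obtain ⟨a, b, c, e⟩ := h3 d
    exact ⟨a, c, b, e⟩
  Q_two := h.Q_two
  max := h.max
  char2 := h.char2
  S_V := h.S_V
  S_R := h.S_R

variable (h : Gin0 F S V R Q i0 i1 j0 j1 v p p')
include h

theorem v_zero : v 0 0 0 0 = 1 := by
  have h1 := h.v_add 0 0 0 0 0 0 0 0
  simp only [add_zero] at h1
  exact (mul_eq_left (a := v 0 0 0 0)).1 h1.symm

theorem dbl (a : F) : a + a = 0 := by rw [← two_mul, h.two, zero_mul]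

/-- `v` is injective -/
theorem inj {a b c d a' b' c' d' : F} (e : v a b c d = v a' b' c' d') : a = a' ∧ b = b' ∧ c = c' ∧ d = d' := by
  have h1 : v (a + a') (b + b') (c + c') (d + d') = 1 := by
    rw [h.v_add, e, ← h.v_add, h.dbl, h.dbl, h.dbl, h.dbl, h.v_zero]
  have key : ∀ {x y : F}, x + y = 0 → x = y := by
    intro x y hxy
    linear_combination hxy - y * h.two
  obtain ⟨h2, h3, h4, h5⟩ := h.v_inj _ _ _ _ h1
  exact ⟨key h2, key h3, key h4, key h5⟩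

theorem p_mul {x y : G} (hx : x ∈ Q i0 j0) (hy : y ∈ Q i0 j0) :
    p (x * y) = p x + p y ∧ p' (x * y) = p' x + p' y := by
  have h1 := h.act (x * y) (mul_mem hx hy) 0 0 0 1
  have h2 : x * y * v 0 0 0 1 * (x * y)⁻¹ = x * (y * v 0 0 0 1 * y⁻¹) * x⁻¹ := by group
  rw [h2, h.act y hy, h.act x hx] at h1
  obtain ⟨-, h3, h4, -⟩ := h.inj h1
  constructor
  · linear_combination -h3
  · linear_combination -h4

theorem nonI : Nonempty I := ⟨i0⟩
theorem nonJ : Nonempty J := ⟨j0⟩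

/-- `T_{i0} = {v a b 0 0}` -/
theorem v_row (a b : F) : v a b 0 0 ∈ rowG Q i0 := by
  have h1 : v a 0 0 0 ∈ rowG Q i0 := h.grid.R_row i0 j0 ((h.R00 _).2 ⟨a, rfl⟩)
  have h2 : v 0 b 0 0 ∈ rowG Q i0 := h.grid.R_row i0 j1 ((h.R01 _).2 ⟨b, rfl⟩)
  have h3 := h.v_add a 0 0 0 0 b 0 0
  simp only [add_zero, zero_add] at h3
  rw [h3]; exact mul_mem h1 h2

theorem v_col (a c : F) : v a 0 c 0 ∈ colG Q j0 := h.transpose.v_row a c

theorem row_V (a b c d : F) : v a b c d ∈ rowG Q i0 ↔ c = 0 ∧ d = 0 := by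
  have := h.nonI
  have := h.nonJ
  constructor
  · intro hx
    have hd : d = 0 := (h.V_Q a b c d).1 (h.grid.rowG_le i0 j0 hx)
    subst hd
    refine ⟨?_, rfl⟩
    have h3 := h.v_add a b 0 0 0 0 c 0
    simp only [add_zero, zero_add] at h3
    have h4 : v 0 0 c 0 ∈ rowG Q i0 := by
      have h5 := mul_mem (inv_mem (h.v_row a b)) hx
      rw [h3, inv_mul_cancel_left] at h5
      exact h5
    have h6 : v 0 0 c 0 ∈ R i0 j0 := by
      rw [← h.grid.inf_eq i0 j0]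
      exact mem_inf.2 ⟨h4, h.v_col 0 c⟩
    obtain ⟨a', ha'⟩ := (h.R00 _).1 h6
    exact (h.inj ha').2.2.1
  · rintro ⟨rfl, rfl⟩
    exact h.v_row a b

theorem row_p {x : G} (hx : x ∈ rowG Q i0) : p' x = 0 := by
  have h1 : v 0 1 0 0 ∈ R i0 j1 := (h.R01 _).2 ⟨1, rfl⟩
  have h2 := h.grid.RQ i0 j1 _ h1 x (h.grid.rowG_le i0 j1 hx)
  have h3 := h.act x (h.grid.rowG_le i0 j0 hx) 0 1 0 0
  rw [← h2, mul_inv_cancel_right] at h3
  have h4 := (h.inj h3).1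
  simp only [zero_add, mul_one, mul_zero, add_zero] at h4
  exact h4.symm

/-- the row group `A_{i0}` acts by upper triangular matrices from the left -/
theorem row_act (s : F) : ∃ x ∈ rowG Q i0, ∀ a b c d,
    x * v a b c d * x⁻¹ = v (a + s * c) (b + s * d) c d := by
  obtain ⟨x, hx, h1, h2⟩ := h.p_surj s 0
  obtain ⟨a, ha, b, hb, rfl⟩ := h.grid.Q_mul hx
  have haQ := h.grid.rowG_le i0 j0 ha
  have hbQ : b ∈ Q i0 j0 := h.grid.transpose.rowG_le j0 i0 hb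
  have h3 : p b = 0 := h.transpose.row_p hb
  have h4 : p a = s := by
    rw [← h1, (h.p_mul haQ hbQ).1, h3, add_zero]
  refine ⟨a, ha, fun a' b' c' d' => ?_⟩
  rw [h.act a haQ, h.row_p ha, h4]
  congr 1 <;> ring

/-- the row group `A_{i1}` acts by lower triangular matrices from the left -/
theorem row_act' (s : F) : ∃ x ∈ rowG Q i1, ∀ a b c d,
    x * v a b c d * x⁻¹ = v a b (c + s * a) (d + s * b) := by
  obtain ⟨x, hx, h1⟩ := h.act' s 0
  have h2 : ∀ a b c d, x * v a b c d * x⁻¹ = v a b (c + s * a) (d + s * b) := by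
    intro a b c d
    rw [h1]; congr 1 <;> ring
  have h3 : cj x (R i1 j0) = R i1 j0 := by
    apply cj_eq_of_comm
    intro y hy
    obtain ⟨c, rfl⟩ := (h.R10 _).1 hy
    have h4 := h2 0 0 c 0
    simp only [mul_zero, add_zero] at h4
    calc x * v 0 0 c 0 = x * v 0 0 c 0 * x⁻¹ * x := by group
      _ = v 0 0 c 0 * x := by rw [h4]
  have h5 := h.grid.fixc_of_one h.hj hx h3
  obtain ⟨f, hf, d, hd, hfd⟩ := h.grid.row_mul (j' := j0) h.hj hx h5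
  rw [h.grid.row_eq i1 h.hj.symm] at hf
  rw [mem_inf] at hd
  refine ⟨f, hf, fun a b c e => ?_⟩
  have h6 := h.grid.C_V hd.2 (h.v_mem a b c e)
  rw [← h2, hfd]
  calc f * v a b c e * f⁻¹ = f * (v a b c e * d) * d⁻¹ * f⁻¹ := by group
    _ = f * (d * v a b c e) * d⁻¹ * f⁻¹ := by rw [h6]
    _ = f * d * v a b c e * (f * d)⁻¹ := by group

/-- `n(y) = [[0, y], [y⁻¹, 0]] × 1` -/
theorem exists_n {y : F} (hy : y ≠ 0) : ∃ n ∈ ⨆ k, rowG Q k, ∀ a b c d,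
    n * v a b c d * n⁻¹ = v (y * c) (y * d) (y⁻¹ * a) (y⁻¹ * b) := by
  obtain ⟨x, hx, h1⟩ := h.row_act y
  obtain ⟨z, hz, h2⟩ := h.row_act' y⁻¹
  have hx' : x ∈ ⨆ k, rowG Q k := (le_iSup (rowG Q) i0) hx
  have hz' : z ∈ ⨆ k, rowG Q k := (le_iSup (rowG Q) i1) hz
  refine ⟨x * z * x, mul_mem (mul_mem hx' hz') hx', fun a b c d => ?_⟩
  have e : x * z * x * v a b c d * (x * z * x)⁻¹ = x * (z * (x * v a b c d * x⁻¹) * z⁻¹) * x⁻¹ := by group
  have k1 : y⁻¹ * y = 1 := inv_mul_cancel₀ hy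
  have k2 : y * y⁻¹ = 1 := mul_inv_cancel₀ hy
  have k3 : ∀ t : F, y⁻¹ * (y * t) = t := fun t => by rw [← mul_assoc, k1, one_mul]
  have k4 : ∀ t : F, y * (y⁻¹ * t) = t := fun t => by rw [← mul_assoc, k2, one_mul]
  have e3 : ∀ t u : F, t + y⁻¹ * (u + y * t) = y⁻¹ * u := by
    intro t u
    rw [mul_add, k3]
    linear_combination t * h.two
  rw [e, h1, h2, h1, e3, e3]
  have e4 : ∀ t u : F, u + y * t + y * (y⁻¹ * u) = y * t := by
    intro t u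
    rw [k4]
    linear_combination u * h.two
  rw [e4, e4]

theorem gin : Gin F S V R Q i0 i1 j0 j1 v p p' where
  grid := h.grid
  rc := by
    have := h.nonI
    have := h.nonJ
    exact h.grid.rc
  hi := h.hi
  hj := h.hj
  two := h.two
  four := h.four
  v_add := h.v_add
  v_inj := h.v_inj
  v_mem := h.v_mem
  v_surj := h.v_surj
  R00 := h.R00
  R01 := h.R01
  R10 := h.R10
  R11 := h.R11
  row_V := h.row_V
  col_V a b c d := by
    have h1 := h.transpose.row_V a c b d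
    exact h1
  V_Q := h.V_Q
  act := h.act
  p_surj := h.p_surj
  row_p x hx := h.row_p hx
  col_p x hx := h.transpose.row_p hx
  tor := h.tor
  tor' y hy := by
    obtain ⟨n, hn, h1⟩ := h.exists_n hy
    obtain ⟨m, hm, h2⟩ := h.exists_n (one_ne_zero (α := F))
    refine ⟨n * m, mul_mem hn hm, fun a b c d => ?_⟩
    have e : n * m * v a b c d * (n * m)⁻¹ = n * (m * v a b c d * m⁻¹) * n⁻¹ := by group
    rw [e, h2, h1]
    simp only [inv_one, one_mul]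
  wey := by
    obtain ⟨m, hm, h2⟩ := h.transpose.exists_n (one_ne_zero (α := F))
    refine ⟨m, hm, fun a b c d => ?_⟩
    have h3 := h2 a c b d
    simp only [inv_one, one_mul] at h3
    exact h3
  wey' := by
    obtain ⟨m, hm, h2⟩ := h.exists_n (one_ne_zero (α := F))
    refine ⟨m, hm, fun a b c d => ?_⟩
    rw [h2]
    simp only [inv_one, one_mul]
  swap := by
    have := h.nonI
    have := h.nonJ
    obtain ⟨s, hs, σ, τ, h1⟩ := h.swap
    have hV := cj_of_mem_normalizer (h.S_V hs)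
    have hR := cj_of_mem_normalizer (h.S_R hs)
    have h2 := h1 i0 j0
    rw [hR] at h2
    have h3 := h.grid.inj h2
    refine ⟨s, hs, hV, hR, ?_, ?_⟩
    · rw [h.grid.cj_rowG_swap h1, ← h3.2]
    · have h4 := h.grid.transpose.cj_rowG_swap (σ := τ) (τ := σ) (fun j i => h1 i j) j0
      rw [← h3.1] at h4
      exact h4
  norm g hg hR := by
    have := h.nonI
    have := h.nonJ
    rcases h.norm g hg with ⟨σ, τ, h1⟩ | ⟨σ, τ, h1⟩
    · left
      have h2 := h1 i0 j0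
      rw [hR] at h2
      have h3 := h.grid.inj h2
      refine ⟨?_, ?_⟩
      · rw [h.grid.cj_rowG h1, ← h3.1]
      · have h4 := h.grid.transpose.cj_rowG (σ := τ) (τ := σ) (fun j i => h1 i j) j0
        rw [← h3.2] at h4
        exact h4
    · right
      have h2 := h1 i0 j0
      rw [hR] at h2
      have h3 := h.grid.inj h2
      refine ⟨?_, ?_⟩
      · rw [h.grid.cj_rowG_swap h1, ← h3.2]
      · have h4 := h.grid.transpose.cj_rowG_swap (σ := τ) (τ := σ) (fun j i => h1 i j) j0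
        rw [← h3.1] at h4
        exact h4
  actU := h.actU
  Q_two := h.Q_two
  max := h.max
  char2 := h.char2
  S_V := h.S_V
  S_R := h.S_R

end Gin0

end Cfsg.Agent.Omega.NO1.Gamma

end
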