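import Cfsg.Agent.Mrg.Omega.NO1.Gamma.Grid
import Cfsg.Agent.Mrg.Omega.All.NOne.TwoC

section


/-!
# Type (gamma): `Grid` + coordinates + `All.NOne.Core → Gin0`

* `rook` : automorphisms of the rook graph;
* `Gin1` : the grid, the coordinates and `Core` with `T = F × F`, `X = ⟨Q i j⟩`;
* `Gin1.gin0`.
-/

set_option autoImplicit false
set_option linter.unusedVariables false
set_option linter.unusedSectionVars false

open Subgroup
open scoped Pointwise

namespace Cfsg.Agent.Omega.NO1.Gamma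

open Cfsg Cfsg.Agent.ZN
open Cfsg.Agent.Omega.NO1.Beta.Meet (cj mem_cj conj_mem_cj cj_mul cj_inj cj_eq_of_comm cj_eq_of_mem
  mem_normalizer_of_cj cj_of_mem_normalizer)
open Cfsg.Agent.MinSimple.VModule (o2_isPGroup)
open Cfsg.Agent.Omega.FrameNOFF (CZ)

universe u

/-! ### The rook graph -/

/-- An injective map of `I × J` into itself which preserves the relation 'same row or same column' and its
negation preserves or interchanges rows and columns. -/
theorem rook {I J : Type*} [Nonempty I] [Nonempty J] (r : I → J → I) (c : I → J → J)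
    (hadj : ∀ i j k l, (i = k ∨ j = l) ↔ (r i j = r k l ∨ c i j = c k l))
    (hinj : ∀ i j k l, r i j = r k l → c i j = c k l → i = k ∧ j = l)
    (threeI : ∀ i k : I, ∃ m, m ≠ i ∧ m ≠ k) (threeJ : ∀ j l : J, ∃ m, m ≠ j ∧ m ≠ l) :
    (∃ (σ : I → I) (τ : J → J), ∀ i j, r i j = σ i ∧ c i j = τ j) ∨
      ∃ (σ : J → I) (τ : I → J), ∀ i j, r i j = σ j ∧ c i j = τ i := by
  -- every row is mapped into a row or a column
  have hrow : ∀ i, (∀ j l, r i j = r i l) ∨ (∀ j l, c i j = c i l) := by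
    intro i
    by_contra hcon
    push Not at hcon
    obtain ⟨⟨j, l, h1⟩, j', l', h2⟩ := hcon
    -- `j, l` share the column
    have key : ∀ j l, r i j ≠ r i l → ∀ m, c i m = c i j := by
      intro j l hjl m
      have hc : c i j = c i l := ((hadj i j i l).1 (Or.inl rfl)).resolve_left hjl
      rcases (hadj i m i j).1 (Or.inl rfl) with h3 | h3
      · rcases (hadj i m i l).1 (Or.inl rfl) with h4 | h4
        · exact absurd (h3.symm.trans h4) hjl
        · exact h4.trans hc.symm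
      · exact h3
    exact h2 ((key j l h1 j').trans (key j l h1 l').symm)
  obtain ⟨i₀⟩ := ‹Nonempty I›
  obtain ⟨j₀⟩ := ‹Nonempty J›
  obtain ⟨j₁, hj₁, -⟩ := threeJ j₀ j₀
  obtain ⟨i₁, hi₁, -⟩ := threeI i₀ i₀
  have hne : ∀ i, ¬ ((∀ j l, r i j = r i l) ∧ (∀ j l, c i j = c i l)) := by
    rintro i ⟨h1, h2⟩
    exact hj₁ (hinj i j₁ i j₀ (h1 _ _) (h2 _ _)).2
  -- two rows have the same kind
  have hkind : ∀ i k, i ≠ k → (∀ j l, r i j = r i l) → ¬ (∀ j l, c k j = c k l) := by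
    intro i k hik h1 h2
    -- `c i j = c k j` for all `j`
    have h3 : ∀ j, c i j = c k j := by
      intro j
      rcases (hadj i j k j).1 (Or.inr rfl) with h4 | h4
      · exfalso
        obtain ⟨l, hl, -⟩ := threeJ j j
        have h5 : r i l = r k j := (h1 l j).trans h4
        rcases (hadj i l k j).2 (Or.inl h5) with h6 | h6
        · exact hik h6
        · exact hl h6
      · exact h4
    apply hj₁
    exact (hinj i j₁ i j₀ (h1 _ _) (by rw [h3, h3]; exact h2 _ _)).2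
  by_cases h0 : ∀ j l, r i₀ j = r i₀ l
  · left
    have hall : ∀ i, ∀ j l, r i j = r i l := by
      intro i
      by_cases hi : i = i₀
      · subst hi; exact h0
      · exact (hrow i).resolve_right (hkind i₀ i (Ne.symm hi) h0)
    have hdiff : ∀ i k, i ≠ k → ∀ j l, r i j ≠ r k l := by
      intro i k hik j l h1
      obtain ⟨m, hm, -⟩ := threeJ l l
      have h2 : r i m = r k l := (hall i m j).trans h1
      rcases (hadj i m k l).2 (Or.inl h2) with h6 | h6
      · exact hik h6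
      · exact hm h6
    refine ⟨fun i => r i j₀, fun j => c i₀ j, fun i j => ⟨hall i _ _, ?_⟩⟩
    by_cases hi : i = i₀
    · rw [hi]
    · exact ((hadj i j i₀ j).1 (Or.inr rfl)).resolve_left (hdiff i i₀ hi j j)
  · right
    have h0' : ∀ j l, c i₀ j = c i₀ l := (hrow i₀).resolve_left h0
    have hall : ∀ i, ∀ j l, c i j = c i l := by
      intro i
      by_cases hi : i = i₀
      · subst hi; exact h0'
      · refine (hrow i).resolve_left fun h1 => hkind i i₀ hi h1 h0'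
    have hdiff : ∀ i k, i ≠ k → ∀ j l, c i j ≠ c k l := by
      intro i k hik j l h1
      obtain ⟨m, hm, -⟩ := threeJ l l
      have h2 : c i m = c k l := (hall i m j).trans h1
      rcases (hadj i m k l).2 (Or.inr h2) with h6 | h6
      · exact hik h6
      · exact hm h6
    refine ⟨fun j => r i₀ j, fun i => c i j₀, fun i j => ⟨?_, hall i _ _⟩⟩
    by_cases hi : i = i₀
    · rw [hi]
    · exact ((hadj i j i₀ j).1 (Or.inr rfl)).resolve_right (hdiff i i₀ hi j j)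

variable {G : Type u} [Group G] {I J : Type*}

namespace Grid

variable {V : Subgroup G} {R Q : I → J → Subgroup G} (g : Grid V R Q)
include g

/-- the points `i j` and `k l` are in the same row or column iff `R i j ≤ Q k l` -/
theorem le_iff {i k : I} {j l : J} : R i j ≤ Q k l ↔ (i = k ∨ j = l) := by
  constructor
  · intro h
    by_contra hcon
    push Not at hcon
    have h1 := g.RQj i j k l (Ne.symm hcon.1) (Ne.symm hcon.2)
    rw [inf_eq_left.2 h] at h1
    exact g.ne i j h1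
  · rintro (rfl | rfl)
    · exact g.row _ _ _
    · exact g.col _ _ _

/-- an element which permutes the points preserves or interchanges rows and columns -/
theorem norm_of [Nonempty I] [Nonempty J] {c : G} (h : ∀ i j, ∃ k l, cj c (R i j) = R k l) :
    (∃ (σ : I → I) (τ : J → J), ∀ i j, cj c (R i j) = R (σ i) (τ j)) ∨
      ∃ (σ : J → I) (τ : I → J), ∀ i j, cj c (R i j) = R (σ j) (τ i) := by
  choose r s hrs using h
  have hQ : ∀ i j, cj c (Q i j) = Q (r i j) (s i j) := fun i j => g.conj c _ _ _ _ (hrs i j)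
  have hmono : ∀ H K : Subgroup G, H ≤ K ↔ cj c H ≤ cj c K := by
    intro H K
    constructor
    · intro h x hx
      rw [mem_cj] at hx ⊢
      exact h hx
    · intro h x hx
      have h1 := h (conj_mem_cj (c := c) hx)
      rw [mem_cj] at h1
      have e : c⁻¹ * (c * x * c⁻¹) * c = x := by group
      rwa [e] at h1
  rcases rook r s (fun i j k l => by
      rw [← g.le_iff, ← g.le_iff, hmono (R i j) (Q k l), hrs, hQ])
    (fun i j k l h1 h2 => g.inj (cj_inj (c := c) (by rw [hrs, hrs, h1, h2]))) g.threeI g.threeJ with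
    ⟨σ, τ, h1⟩ | ⟨σ, τ, h1⟩
  · exact Or.inl ⟨σ, τ, fun i j => by rw [hrs, (h1 i j).1, (h1 i j).2]⟩
  · exact Or.inr ⟨σ, τ, fun i j => by rw [hrs, (h1 i j).1, (h1 i j).2]⟩

/-- the group generated by the `Q i j` permutes the points -/
theorem perm_sup {x : G} (hx : x ∈ ⨆ i, ⨆ j, Q i j) : ∀ i j, ∃ k l, cj x (R i j) = R k l := by
  have key : (⨆ i, ⨆ j, Q i j) ≤ ({
      carrier := {x | (∀ i j, ∃ k l, cj x (R i j) = R k l) ∧ ∀ i j, ∃ k l, cj x⁻¹ (R i j) = R k l}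
      one_mem' := ⟨fun i j => ⟨i, j, cj_one' _⟩, fun i j => ⟨i, j, by rw [inv_one]; exact cj_one' _⟩⟩
      mul_mem' := by
        rintro x y ⟨hx, hx'⟩ ⟨hy, hy'⟩
        refine ⟨fun i j => ?_, fun i j => ?_⟩
        · obtain ⟨k, l, h1⟩ := hy i j
          obtain ⟨k', l', h2⟩ := hx k l
          exact ⟨k', l', by rw [cj_mul, h1, h2]⟩
        · obtain ⟨k, l, h1⟩ := hx' i j
          obtain ⟨k', l', h2⟩ := hy' k l
          exact ⟨k', l', by rw [mul_inv_rev, cj_mul, h1, h2]⟩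
      inv_mem' := by
        rintro x ⟨hx, hx'⟩
        exact ⟨hx', by rwa [inv_inv]⟩ } : Subgroup G) := by
    refine iSup_le fun k => iSup_le fun l => fun y hy => ⟨fun i j => ?_, fun i j => ?_⟩
    · obtain ⟨σ, τ, -, -, h1⟩ := g.perm k l y hy
      exact ⟨_, _, h1 i j⟩
    · obtain ⟨σ, τ, -, -, h1⟩ := g.perm k l y⁻¹ (inv_mem hy)
      exact ⟨_, _, h1 i j⟩
  exact (key hx).1

theorem sup_nor : (⨆ i, ⨆ j, Q i j) ≤ normalizer (V : Set G) := iSup_le fun k => iSup_le fun l => g.Q_V k l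

/-- transitivity on the points -/
theorem exists_move (i k : I) (j l : J) : ∃ x ∈ ⨆ i, ⨆ j, Q i j, cj x (R i j) = R k l := by
  obtain ⟨m, hm1, hm2⟩ := g.threeI i k
  obtain ⟨n, hn1, hn2⟩ := g.threeJ j l
  obtain ⟨y, hy, h1⟩ := g.tran m n i j k l hm1.symm hm2.symm hn1.symm hn2.symm
  exact ⟨y, (le_iSup_of_le (f := fun i => ⨆ j, Q i j) m (le_iSup (Q m) n)) hy, h1⟩

end Grid

/-- The grid, the coordinates and `Core`. -/
structure Gin1 (F : Type*) [Field F] (S : Sylow 2 G) (V : Subgroup G) (R Q : I → J → Subgroup G) (i0 i1 : I) (j0 j1 : J)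
    (v : F → F → F → F → G) (p p' : G → F) : Prop where
  grid : Grid V R Q
  hi : i0 ≠ i1
  hj : j0 ≠ j1
  core : All.NOne.Core (S : Subgroup G) V (R i0 j0) (Q i0 j0) (⨆ i, ⨆ j, Q i j)
    (fun a (b : F × F) d => v a b.1 b.2 d) (fun b => b.1 * b.2) (fun b c => b.1 * c.2 + b.2 * c.1)
  R01 : ∀ x, x ∈ R i0 j1 ↔ ∃ b, x = v 0 b 0 0
  R10 : ∀ x, x ∈ R i1 j0 ↔ ∃ c, x = v 0 0 c 0
  R11 : ∀ x, x ∈ R i1 j1 ↔ ∃ d, x = v 0 0 0 d
  act : ∀ x ∈ Q i0 j0, ∀ a b c d, x * v a b c d * x⁻¹ =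
    v (a + p' x * b + p x * c + p x * p' x * d) (b + p x * d) (c + p' x * d) d
  act' : ∀ s t, ∃ x ∈ Q i1 j1, ∀ a b c d, x * v a b c d * x⁻¹ =
    v a (b + t * a) (c + s * a) (d + s * b + t * c + s * t * a)
  tor : ∀ y : F, y ≠ 0 → ∃ h ∈ normalizer (V : Set G), ∀ a b c d,
    h * v a b c d * h⁻¹ = v a (y ^ 2 * b) ((y ^ 2)⁻¹ * c) d
  swap : ∃ s ∈ S, ∃ (σ : J → I) (τ : I → J), ∀ i j, cj s (R i j) = R (σ j) (τ i)

namespace Gin1

variable {F : Type*} [Field F] {S : Sylow 2 G} {V : Subgroup G} {R Q : I → J → Subgroup G} {i0 i1 : I}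
  {j0 j1 : J} {v : F → F → F → F → G} {p p' : G → F} (h : Gin1 F S V R Q i0 i1 j0 j1 v p p')
include h

theorem v_add (a b c d a' b' c' d' : F) :
    v (a + a') (b + b') (c + c') (d + d') = v a b c d * v a' b' c' d' :=
  h.core.e_add a (b, c) d a' (b', c') d'

theorem v_eq {a b c d a' b' c' d' : F} (e : v a b c d = v a' b' c' d') : a = a' ∧ b = b' ∧ c = c' ∧ d = d' := by
  obtain ⟨h1, h2, h3⟩ := h.core.e_eq (a := a) (b := (b, c)) (d := d) (a' := a') (b' := (b', c')) (d' := d') e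
  exact ⟨h1, congrArg Prod.fst h2, congrArg Prod.snd h2, h3⟩

theorem R00 (x : G) : x ∈ R i0 j0 ↔ ∃ a, x = v a 0 0 0 := by
  rw [h.core.R_iff]
  exact exists_congr fun a => ⟨fun e => e.symm, fun e => e.symm⟩

theorem p_surj (s t : F) : ∃ x ∈ Q i0 j0, p x = s ∧ p' x = t := by
  obtain ⟨y, hy, h1⟩ := h.core.act_surj (s, t)
  have h2 := (h1 0 (0, 0) 1).symm.trans (h.act y hy 0 0 0 1)
  obtain ⟨-, h3, h4, -⟩ := h.v_eq h2
  simp only [Prod.fst_add, Prod.snd_add, Prod.smul_fst, Prod.smul_snd, smul_eq_mul, one_mul, mul_one, zero_add]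
    at h3 h4
  exact ⟨y, hy, h3.symm, h4.symm⟩

section

variable [Finite G] (hG : IsCharacteristicTwoType G) (hZ : zc (S : Subgroup G) ≠ ⊥)
include hG hZ

/-- `N_G(V)` permutes the points (MX) -/
theorem perm {g : G} (hg : g ∈ normalizer (V : Set G)) (i : I) (j : J) : ∃ k l, cj g (R i j) = R k l := by
  obtain ⟨x, hx, h1⟩ := h.grid.exists_move i0 i j0 j
  obtain ⟨y, hy, h2⟩ := h.core.mx S hG hZ (mul_mem hg (h.grid.sup_nor hx))
  have h3 := cj_of_mem_normalizer h2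
  obtain ⟨k, l, h4⟩ := h.grid.perm_sup (inv_mem hy) i0 j0
  refine ⟨k, l, ?_⟩
  rw [← h4, ← h1, ← cj_mul]
  have e : g * x = y⁻¹ * (y * (g * x)) := by group
  rw [e, cj_mul, h3]

theorem norm {g : G} (hg : g ∈ normalizer (V : Set G)) :
    (∃ (σ : I → I) (τ : J → J), ∀ i j, cj g (R i j) = R (σ i) (τ j)) ∨
      ∃ (σ : J → I) (τ : I → J), ∀ i j, cj g (R i j) = R (σ j) (τ i) := by
  have : Nonempty I := ⟨i0⟩
  have : Nonempty J := ⟨j0⟩
  exact h.grid.norm_of (h.perm hG hZ hg)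

theorem actU (g : G) (hg : g ∈ normalizer (V : Set G)) (g0 : ∀ a, g * v a 0 0 0 * g⁻¹ = v a 0 0 0)
    (g1 : ∀ b c, ∃ a, g * v 0 b c 0 * g⁻¹ = v a b c 0) (g2 : ∀ d, ∃ a b c, g * v 0 0 0 d * g⁻¹ = v a b c d) :
    ∃ x ∈ Q i0 j0, g * x⁻¹ ∈ centralizer (V : Set G) := by
  have hfix : cj g (R i0 j0) = R i0 j0 := by
    apply cj_eq_of_comm
    intro x hx
    obtain ⟨a, rfl⟩ := (h.R00 x).1 hx
    calc g * v a 0 0 0 = g * v a 0 0 0 * g⁻¹ * g := by group
      _ = v a 0 0 0 * g := by rw [g0]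
  rcases h.norm hG hZ hg with ⟨σ, τ, h1⟩ | ⟨σ, τ, h1⟩
  · have h2 := h1 i0 j0
    rw [hfix] at h2
    obtain ⟨h3, h4⟩ := h.grid.inj h2
    have h5 : σ i1 ≠ i0 := by
      intro h6
      apply h.hi
      have h7 : cj g (R i0 j0) = cj g (R i1 j0) := by rw [h1, h1, ← h3, h6]
      exact (h.grid.inj (cj_inj h7)).1
    have h6 : τ j1 ≠ j0 := by
      intro h6
      apply h.hj
      have h7 : cj g (R i0 j0) = cj g (R i0 j1) := by rw [h1, h1, ← h4, h6]
      exact (h.grid.inj (cj_inj h7)).2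
    obtain ⟨x, hx, h7⟩ := h.grid.tran i0 j0 i1 j1 (σ i1) (τ j1) h.hi.symm h5 h.hj.symm h6
    have hxV := h.grid.Q_V i0 j0 hx
    have hk0 : cj (x⁻¹ * g) (R i0 j0) = R i0 j0 := by
      rw [cj_mul, hfix]
      exact h.grid.fix_R (inv_mem hx)
    have hk1 : cj (x⁻¹ * g) (R i1 j1) = R i1 j1 := by
      rw [cj_mul, h1]
      exact cj_inv_of h7
    have hkV : x⁻¹ * g ∈ normalizer (V : Set G) := mul_mem (inv_mem hxV) hg
    -- the action of `x⁻¹ g` on the coordinates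
    have hx' : ∀ a b c d, x⁻¹ * v a b c d * x = v (a + p' x⁻¹ * b + p x⁻¹ * c + p x⁻¹ * p' x⁻¹ * d)
        (b + p x⁻¹ * d) (c + p' x⁻¹ * d) d := by
      intro a b c d
      have := h.act x⁻¹ (inv_mem hx) a b c d
      rwa [inv_inv] at this
    have hk2 : ∀ b c, ∃ a, (x⁻¹ * g) * v 0 b c 0 * (x⁻¹ * g)⁻¹ = v a b c 0 := by
      intro b c
      obtain ⟨a, h8⟩ := g1 b c
      have e : (x⁻¹ * g) * v 0 b c 0 * (x⁻¹ * g)⁻¹ = x⁻¹ * (g * v 0 b c 0 * g⁻¹) * x := by group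
      rw [e, h8, hx']
      simp only [mul_zero, add_zero]
      exact ⟨_, rfl⟩
    have hk3 : ∀ d, ∃ a b c, (x⁻¹ * g) * v 0 0 0 d * (x⁻¹ * g)⁻¹ = v a b c d := by
      intro d
      obtain ⟨a, b, c, h8⟩ := g2 d
      have e : (x⁻¹ * g) * v 0 0 0 d * (x⁻¹ * g)⁻¹ = x⁻¹ * (g * v 0 0 0 d * g⁻¹) * x := by group
      rw [e, h8, hx']
      exact ⟨_, _, _, rfl⟩
    have hk4 : ∀ a, (x⁻¹ * g) * v a 0 0 0 * (x⁻¹ * g)⁻¹ = v a 0 0 0 := by
      intro a
      have e : (x⁻¹ * g) * v a 0 0 0 * (x⁻¹ * g)⁻¹ = x⁻¹ * (g * v a 0 0 0 * g⁻¹) * x := by group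
      rw [e, g0, hx']
      simp only [mul_zero, add_zero]
    generalize hk : x⁻¹ * g = k at *
    -- `k` fixes rows and columns `0`, `1`
    have hkk : ∃ (σ' : I → I) (τ' : J → J), (∀ i j, cj k (R i j) = R (σ' i) (τ' j)) ∧ σ' i0 = i0 ∧ σ' i1 = i1 ∧
        τ' j0 = j0 ∧ τ' j1 = j1 := by
      obtain ⟨σ₂, τ₂, -, -, h8⟩ := h.grid.perm i0 j0 x⁻¹ (inv_mem hx)
      have h9 : ∀ i j, cj k (R i j) = R (σ₂ (σ i)) (τ₂ (τ j)) := by
        intro i j
        rw [← hk, cj_mul, h1, h8]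
      have h10 := h9 i0 j0
      rw [hk0] at h10
      have h11 := h9 i1 j1
      rw [hk1] at h11
      exact ⟨fun i => σ₂ (σ i), fun j => τ₂ (τ j), h9, (h.grid.inj h10).1.symm, (h.grid.inj h11).1.symm,
        (h.grid.inj h10).2.symm, (h.grid.inj h11).2.symm⟩
    obtain ⟨σ', τ', h8, s0, s1, t0, t1⟩ := hkk
    have hb : ∀ b, k * v 0 b 0 0 * k⁻¹ = v 0 b 0 0 := by
      intro b
      obtain ⟨a, h9⟩ := hk2 b 0
      have h10 : k * v 0 b 0 0 * k⁻¹ ∈ R i0 j1 := by
        have := h8 i0 j1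
        rw [s0, t1] at this
        exact mem_of_cj this ((h.R01 _).2 ⟨b, rfl⟩)
      rw [h9] at h10 ⊢
      obtain ⟨b', h11⟩ := (h.R01 _).1 h10
      obtain ⟨rfl, -⟩ := h.v_eq h11
      rfl
    have hc : ∀ c, k * v 0 0 c 0 * k⁻¹ = v 0 0 c 0 := by
      intro c
      obtain ⟨a, h9⟩ := hk2 0 c
      have h10 : k * v 0 0 c 0 * k⁻¹ ∈ R i1 j0 := by
        have := h8 i1 j0
        rw [s1, t0] at this
        exact mem_of_cj this ((h.R10 _).2 ⟨c, rfl⟩)
      rw [h9] at h10 ⊢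
      obtain ⟨b', h11⟩ := (h.R10 _).1 h10
      obtain ⟨rfl, -⟩ := h.v_eq h11
      rfl
    have hd : ∀ d, k * v 0 0 0 d * k⁻¹ = v 0 0 0 d := by
      intro d
      obtain ⟨a, b, c, h9⟩ := hk3 d
      have h10 : k * v 0 0 0 d * k⁻¹ ∈ R i1 j1 := mem_of_cj hk1 ((h.R11 _).2 ⟨d, rfl⟩)
      rw [h9] at h10 ⊢
      obtain ⟨b', h11⟩ := (h.R11 _).1 h10
      obtain ⟨rfl, rfl, rfl, -⟩ := h.v_eq h11
      rfl
    have hkC : k ∈ centralizer (V : Set G) := by
      rw [mem_centralizer']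
      intro w hw
      obtain ⟨a, ⟨b, c⟩, d, rfl⟩ := h.core.e_surj w hw
      change k * v a b c d = v a b c d * k
      have e : v a b c d = v a 0 0 0 * v 0 b 0 0 * (v 0 0 c 0 * v 0 0 0 d) := by
        rw [← h.v_add, ← h.v_add, ← h.v_add]
        simp only [add_zero, zero_add]
      have e2 : k * v a b c d * k⁻¹ = v a b c d := by
        calc k * v a b c d * k⁻¹ = (k * v a 0 0 0 * k⁻¹) * (k * v 0 b 0 0 * k⁻¹) *
              ((k * v 0 0 c 0 * k⁻¹) * (k * v 0 0 0 d * k⁻¹)) := by rw [e]; group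
          _ = v a b c d := by rw [hk4, hb, hc, hd, ← e]
      calc k * v a b c d = k * v a b c d * k⁻¹ * k := by group
        _ = v a b c d * k := by rw [e2]
    refine ⟨x, hx, ?_⟩
    have e : g * x⁻¹ = x * k * x⁻¹ := by rw [← hk]; group
    rw [e]
    exact h.grid.conj_C hxV hkC
  · exfalso
    have h2 := h1 i0 j0
    rw [hfix] at h2
    obtain ⟨h3, h4⟩ := h.grid.inj h2
    obtain ⟨a, h5⟩ := g1 1 0
    have h6 : g * v 0 1 0 0 * g⁻¹ ∈ R (σ j1) j0 := by
      have := h1 i0 j1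
      rw [← h4] at this
      exact mem_of_cj this ((h.R01 _).2 ⟨1, rfl⟩)
    rw [h5] at h6
    have h7 : v a 1 0 0 ∈ Q i1 j0 := h.grid.col _ _ _ h6
    have h8 : v a 0 0 0 ∈ Q i1 j0 := h.grid.col i0 i1 j0 ((h.R00 _).2 ⟨a, rfl⟩)
    have h9 : v 0 1 0 0 ∈ Q i1 j0 := by
      have e : v a 1 0 0 = v a 0 0 0 * v 0 1 0 0 := by
        rw [← h.v_add]; simp only [add_zero, zero_add]
      have e2 : v 0 1 0 0 = (v a 0 0 0)⁻¹ * v a 1 0 0 := by rw [e]; group
      rw [e2]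
      exact mul_mem (inv_mem h8) h7
    have h10 : v 0 1 0 0 ∈ R i0 j1 ⊓ Q i1 j0 := ⟨(h.R01 _).2 ⟨1, rfl⟩, h9⟩
    rw [h.grid.RQj i0 j1 i1 j0 h.hi.symm h.hj, mem_bot] at h10
    exact one_ne_zero (congrArg Prod.fst (h.core.e_inj 0 ((1, 0) : F × F) 0 h10).2.1)

theorem char2 : centralizer (Q i0 j0 : Set G) ≤ Q i0 j0 := by
  have hS : (S : Subgroup G) ≠ ⊥ := by
    intro h0
    apply hZ
    rw [← le_bot_iff, ← h0]
    exact Cfsg.Agent.MinSimple.VModule.zc_le _
  have h1 := h.core.o2_CZ S hG hZ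
  have h2 := (Cfsg.Agent.Omega.MinPar.isLoc_centralizer_zc S hS).char2 S hG
  intro x hx
  rw [← h1]
  apply h2
  refine ⟨?_, ?_⟩
  · exact centralizer_le (h.core.Z_R.trans h.core.R_Q) hx
  · have e : ((o2 (CZ (S : Subgroup G)) : Subgroup G) : Set G) = (Q i0 j0 : Set G) := by rw [h1]
    change x ∈ centralizer ((o2 (CZ (S : Subgroup G)) : Subgroup G) : Set G)
    rw [e]
    exact hx

/-- **`Gin1 → Gin0`** -/
theorem gin0 : Gin0 F S V R Q i0 i1 j0 j1 v p p' where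
  grid := h.grid
  hi := h.hi
  hj := h.hj
  two := by
    have := h.core.form.F2 1
    rw [one_add_one_eq_two] at this
    exact this
  four := by
    obtain ⟨t, h1, h2⟩ := h.core.exists_two
    refine ⟨t, h1, fun h3 => h2 ?_⟩
    rw [h3]
    exact h.core.form.F2 1
  v_add := h.v_add
  v_inj a b c d e := by
    obtain ⟨h1, h2, h3⟩ := h.core.e_inj a ((b, c) : F × F) d e
    exact ⟨h1, congrArg Prod.fst h2, congrArg Prod.snd h2, h3⟩
  v_mem a b c d := h.core.e_mem a ((b, c) : F × F) d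
  v_surj x hx := by
    obtain ⟨a, ⟨b, c⟩, d, h1⟩ := h.core.e_surj x hx
    exact ⟨a, b, c, d, h1⟩
  R00 := h.R00
  R01 := h.R01
  R10 := h.R10
  R11 := h.R11
  V_Q a b c d := ⟨fun h1 => h.core.V_Q a ((b, c) : F × F) d h1, fun h1 => by
    subst h1
    exact h.core.E_le a ((b, c) : F × F)⟩
  act := h.act
  p_surj := h.p_surj
  act' := h.act'
  tor := h.tor
  swap := h.swap
  norm g hg := h.norm hG hZ (mem_normalizer_of_cj hg)
  actU := h.actU hG hZ
  Q_two := by rw [h.core.Q_eq]; exact o2_isPGroup _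
  max N hN hNC hn := by
    have hR : centralizer (R i0 j0 : Set G) ≤ normalizer ((centralizer (R i0 j0 : Set G) : Subgroup G) : Set G) :=
      le_normalizer
    have hn' : normalizer (R i0 j0 : Set G) ≤
        normalizer ((centralizer (R i0 j0 : Set G) : Subgroup G) : Set G) := by
      have key : ∀ g ∈ normalizer (R i0 j0 : Set G), ∀ x ∈ centralizer (R i0 j0 : Set G),
          g * x * g⁻¹ ∈ centralizer (R i0 j0 : Set G) := by
        intro g hg x hx
        rw [mem_centralizer_iff] at hx ⊢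
        intro r hr
        have h1 : g⁻¹ * r * g ∈ R i0 j0 := h.core.R_nor' hg hr
        have h2 := hx _ h1
        calc r * (g * x * g⁻¹) = g * (g⁻¹ * r * g * x) * g⁻¹ := by group
          _ = g * (x * (g⁻¹ * r * g)) * g⁻¹ := by rw [h2]
          _ = g * x * g⁻¹ * r := by group
      intro g hg
      rw [mem_normalizer_iff]
      intro x
      refine ⟨key g hg x, fun hx => ?_⟩
      have := key g⁻¹ (inv_mem hg) _ hx
      have e : g⁻¹ * (g * x * g⁻¹) * g⁻¹⁻¹ = x := by group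
      rwa [e] at this
    have h1 : N ≤ o2 (centralizer (R i0 j0 : Set G)) := by
      apply Cfsg.Agent.MinSimple.VModule.le_o2 hNC hN
      intro c hc
      rw [mem_normalizer_iff]
      intro x
      refine ⟨hn c hc x, fun hx => ?_⟩
      have := hn c⁻¹ (inv_mem hc) _ hx
      have e : c⁻¹ * (c * x * c⁻¹) * c⁻¹⁻¹ = x := by group
      rwa [e] at this
    rw [h.core.Q_eq]
    exact h1.trans (All.NOne.o2_le_o2_of_normal h.core.cenR_norm hn')
  char2 := h.char2 hG hZ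
  S_V := h.core.S_V
  S_R := h.core.S_R

end

end Gin1

end Cfsg.Agent.Omega.NO1.Gamma

end

section


/-!
# THEOREM ALL-N1: the two-point data for type (γ)

* `Gin0.surj_swap` : the swap maps `{v 0 b 0 0}` onto `{v a 0 c 0}` modulo `R`;
* `Gin1.pair` : `Pair` for two opposite points of the grid;
* `Gin1.ext` : `Ext` for type (γ).
-/

set_option autoImplicit false
set_option linter.unusedVariables false
set_option linter.unusedSectionVars false

open Subgroup
open scoped Pointwise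

namespace Cfsg.Agent.Omega.NO1.Gamma

open Cfsg Cfsg.Agent.ZN
open Cfsg.Agent.Omega.NO1.Beta.Meet (cj mem_cj)

universe u

variable {G : Type u} [Group G] {I J : Type*} {F : Type*} [Field F] {S : Sylow 2 G} {V : Subgroup G}
  {R Q : I → J → Subgroup G} {i0 i1 : I} {j0 j1 : J} {v : F → F → F → F → G} {p p' : G → F}

/-- A column-valued additive map: the swap maps `{v 0 b 0 0}` onto `{v a 0 c 0}` modulo `R i0 j0`. -/
theorem Gin0.surj_swap [Finite F] (h : Gin0 F S V R Q i0 i1 j0 j1 v p p') {s : G}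
    (hs : s ∈ normalizer (R i0 j0 : Set G)) {σ : J → I} {τ : I → J}
    (h1 : ∀ i j, cj s (R i j) = R (σ j) (τ i)) (c : F) :
    ∃ b a, s * v 0 b 0 0 * s⁻¹ = v a 0 c 0 := by
  have := h.nonI
  have := h.nonJ
  have h2 : R (σ j0) (τ i0) = R i0 j0 := by
    rw [← h1, Cfsg.Agent.Omega.NO1.Beta.Meet.cj_of_mem_normalizer hs]
  have hτ : τ i0 = j0 := (h.grid.inj h2).2
  have key : ∀ b, ∃ a c, s * v 0 b 0 0 * s⁻¹ = v a 0 c 0 := by
    intro b
    have h3 : s * v 0 b 0 0 * s⁻¹ ∈ R (σ j1) (τ i0) :=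
      mem_of_cj (h1 i0 j1) ((h.R01 _).2 ⟨b, rfl⟩)
    rw [hτ] at h3
    obtain ⟨a, b', c', d', h4⟩ := h.v_surj _ (h.grid.R_le _ _ h3)
    have h5 := h.grid.transpose.R_row _ _ h3
    rw [← h4] at h5
    obtain ⟨h6, h7⟩ := (h.transpose.row_V a c' b' d').1 h5
    exact ⟨a, c', by rw [← h4, h6, h7]⟩
  choose f g hfg using key
  have hinj : Function.Injective g := by
    intro b b' hbb
    have h3 : s * v 0 (b + b') 0 0 * s⁻¹ = v (f b + f b') 0 0 0 := by
      have e1 : v 0 (b + b') 0 0 = v 0 b 0 0 * v 0 b' 0 0 := by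
        rw [← h.v_add]; simp only [add_zero]
      have e2 : s * (v 0 b 0 0 * v 0 b' 0 0) * s⁻¹ = (s * v 0 b 0 0 * s⁻¹) * (s * v 0 b' 0 0 * s⁻¹) := by group
      rw [e1, e2, hfg, hfg, ← h.v_add, hbb]
      simp only [h.dbl]
    have h4 : v 0 (b + b') 0 0 ∈ R i0 j0 := by
      rw [mem_normalizer_iff.1 hs, h3]
      exact (h.R00 _).2 ⟨_, rfl⟩
    obtain ⟨a, ha⟩ := (h.R00 _).1 h4
    have h5 := (h.inj ha).2.1
    linear_combination h5 - b' * h.two
  obtain ⟨b, hb⟩ := (Finite.injective_iff_surjective.1 hinj) c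
  exact ⟨b, f b, by rw [hfg, hb]⟩

namespace Gin1

variable (h : Gin1 F S V R Q i0 i1 j0 j1 v p p')
include h

/-- **The two-point data for type (γ).** -/
theorem pair [Finite G] [Finite F] (hG : IsCharacteristicTwoType G) (hZ : zc (S : Subgroup G) ≠ ⊥) :
    All.NOne.Pair (S : Subgroup G) V (R i0 j0) (Q i0 j0) (R i1 j1) (Q i1 j1)
      (fun a (b : F × F) d => v a b.1 b.2 d) (fun b => b.1 * b.2) (fun b c => b.1 * c.2 + b.2 * c.1) := by
  have h0 := h.gin0 hG hZ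
  refine All.NOne.Pair.of_core h.core ?_ ?_ ?_ (h.char2 hG hZ) ?_ S.isPGroup' ?_
  · intro r
    rw [h.R11]
    exact exists_congr fun a => ⟨fun e => e.symm, fun e => e.symm⟩
  · intro b _
    obtain ⟨x, hx, h1⟩ := h.act' b.2 b.1
    refine ⟨x, hx, fun a y d => ?_⟩
    change x * v a y.1 y.2 d * x⁻¹ = v a (y.1 + a * b.1) (y.2 + a * b.2) (d + (y.1 * b.2 + y.2 * b.1) + b.1 * b.2 * a)
    rw [h1]
    congr 1 <;> ring
  · obtain ⟨x, -, h1⟩ := h.grid.exists_move i0 i1 j0 j1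
    have h2 := h.grid.conj x _ _ _ _ h1
    have e : ∀ H : Subgroup G, All.NOne.cj x H = cj x H := by
      intro H
      ext y
      rw [All.NOne.mem_cj, mem_cj]
    rw [← h2, ← h1, ← e, ← e, h.core.Q_eq, All.NOne.Pair.cj_o2, All.NOne.Pair.cj_norm]
  · exact h.grid.meet i0 j0 i1 j1 h.hi.symm h.hj.symm
  · obtain ⟨s, hs, σ, τ, h1⟩ := h.swap
    have hsR := h.core.S_R hs
    intro A hA
    refine ⟨s, hs, fun b => ?_⟩
    by_cases hc : ∃ c ∈ A, c.1 ≠ 0
    · obtain ⟨c, hcA, hc1⟩ := hc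
      have hc2 : c.2 = 0 := (mul_eq_zero.1 (hA c hcA)).resolve_left hc1
      have hA2 : ∀ c' ∈ A, c'.2 = 0 := by
        intro c' hc'
        by_contra hne
        have h3 : c'.1 = 0 := (mul_eq_zero.1 (hA c' hc')).resolve_right hne
        have h4 := hA (c + c') (A.add_mem hcA hc')
        simp only [Prod.fst_add, Prod.snd_add, hc2, h3, add_zero, zero_add] at h4
        exact mul_ne_zero hc1 hne h4
      obtain ⟨i', a, h3⟩ := h0.surj_swap hsR h1 b.2
      refine ⟨a, (b.1, 0), (i', 0), fun c' hc' => ?_, fun c' hc' => ?_, ?_⟩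
      · simp [hA2 c' hc']
      · simp [hA2 c' hc']
      · change v 0 b.1 b.2 0 = v a 0 0 0 * v 0 b.1 0 0 * (s * v 0 i' 0 0 * s⁻¹)
        rw [h3, ← h.v_add, ← h.v_add]
        simp only [add_zero, zero_add, h0.dbl]
    · push Not at hc
      obtain ⟨i', a, h3⟩ := h0.transpose.surj_swap (σ := τ) (τ := σ) hsR (fun j i => h1 i j) b.1
      refine ⟨a, (0, b.2), (0, i'), fun c' hc' => ?_, fun c' hc' => ?_, ?_⟩
      · simp [hc c' hc']
      · simp [hc c' hc']
      · change v 0 b.1 b.2 0 = v a 0 0 0 * v 0 0 b.2 0 * (s * v 0 0 i' 0 * s⁻¹)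
        have h4 : s * v 0 0 i' 0 * s⁻¹ = v a b.1 0 0 := h3
        rw [h4, ← h.v_add, ← h.v_add]
        simp only [add_zero, zero_add, h0.dbl]

/-- **`Ext` for type (γ).** -/
theorem ext [Finite G] [Finite F] (hG : IsCharacteristicTwoType G) (hZ : zc (S : Subgroup G) ≠ ⊥) :
    All.NOne.Ext (S : Subgroup G) V (R i0 j0) (Q i0 j0) (centralizer (V : Set G) ⊓ Q i1 j1)
      (fun a (b : F × F) d => v a b.1 b.2 d) :=
  (h.pair hG hZ).ext

end Gin1

end Cfsg.Agent.Omega.NO1.Gamma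

end
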