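import Cfsg.Agent.Mrg.Omega.NOne.SL.OfDec
import Cfsg.Agent.Mrg.Omega.NO1.Beta.Meet
import Cfsg.Agent.Omega.NoFF.Basic
import Mathlib.GroupTheory.Commutator.Basic
import Mathlib.GroupTheory.Index
import Cfsg.Agent.Mrg.Omega.NO1.Gamma.Grid

section


/-!
# Type (gamma), `q ≥ 4`: the input of THEOREM SL

(I2) of bb #15588, last part.
-/

set_option autoImplicit false
set_option linter.unusedVariables false
set_option linter.unusedSectionVars false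
set_option linter.unusedSimpArgs false

open Subgroup
open scoped Pointwise commutatorElement

namespace Cfsg.Agent.Omega.NO1.Gamma

open Cfsg.Agent.Omega.NO1.Beta.Meet (cj mem_cj conj_mem_cj cj_mul cj_inj cj_eq_of_comm
  mem_normalizer_of_cj cj_of_mem_normalizer)
open Cfsg.Agent.Omega.NOne

namespace Gin

variable {F : Type*} [Field F] {G : Type*} [Group G] {I J : Type*} {S : Sylow 2 G} {V : Subgroup G}
  {R Q : I → J → Subgroup G} {i0 i1 : I} {j0 j1 : J} {v : F → F → F → F → G} {p p' : G → F}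
  (D : Gin F S V R Q i0 i1 j0 j1 v p p') [Finite G]

include D

omit D in
theorem cj_eq_of_le {g : G} {H : Subgroup G} (h : ∀ x ∈ H, g * x * g⁻¹ ∈ H) : cj g H = H := by
  refine Subgroup.eq_of_le_of_card_ge ?_ ?_
  · intro x hx
    rw [mem_cj] at hx
    have := h _ hx
    have e : g * (g⁻¹ * x * g) * g⁻¹ = x := by group
    rwa [e] at this
  · exact Nat.card_le_card_of_injective (fun x : H => (⟨g * x * g⁻¹, conj_mem_cj x.2⟩ : cj g H)) fun x y h => by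
      have h1 : g * (x : G) * g⁻¹ = g * y * g⁻¹ := congrArg Subtype.val h
      exact Subtype.ext (mul_left_cancel (mul_right_cancel h1))

/-- the root group of `e` -/
theorem ac_v (d : F) (m : D.Mo) : D.ac (D.V_le_K (D.v_mem 0 0 0 d)) m =
    m + d • (D.ff m D.e₁ • D.e₂ + D.ff m D.e₂ • D.e₁) := by
  obtain ⟨x, hx, rfl⟩ := D.pi_surj m
  rw [D.ac_pi, D.ff_e₁, D.ff_e₂]
  have h1 : v 0 0 0 d * x * (v 0 0 0 d)⁻¹ = v (p x * p' x * d) (p x * d) (p' x * d) 0 * x := by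
    have h2 := D.comm_v hx 0 0 0 d
    rw [mul_zero, mul_zero, zero_add, zero_add] at h2
    rw [← h2]
    simp only [commutatorElement_def]
    group
  rw [D.pi_congr _ h1 (mul_mem (D.v_Q _ _ _) hx), D.pi_mul (D.v_Q _ _ _) hx, D.pi_v]
  module

/-- **An element which normalises `R` and `E` normalises `V`.** -/
theorem cjV {g : G} (hR : cj g (R i0 j0) = R i0 j0) (hE : ∀ x ∈ V ⊓ Q i0 j0, g * x * g⁻¹ ∈ V) :
    cj g V = V := by
  have hQ := D.cj_Q hR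
  have hE' : cj g (V ⊓ Q i0 j0) = V ⊓ Q i0 j0 :=
    cj_eq_of_le fun x hx => ⟨hE x hx, conj_of_cj hQ hx.2⟩
  refine cj_eq_of_le fun w hw => ?_
  have hK : g * w * g⁻¹ ∈ centralizer (R i0 j0 : Set G) := by
    rw [D.mem_K]
    intro r hr
    have h1 := D.V_comm hw (D.R_le_V (conj_of_cj' hR hr))
    calc g * w * g⁻¹ * r = g * (w * (g⁻¹ * r * g)) * g⁻¹ := by group
      _ = g * ((g⁻¹ * r * g) * w) * g⁻¹ := by rw [h1]
      _ = r * (g * w * g⁻¹) := by group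
  have hC : ∀ x ∈ Q i0 j0, x ∈ centralizer (V : Set G) → g * w * g⁻¹ * x = x * (g * w * g⁻¹) := by
    intro x hx hxV
    have h1 : g⁻¹ * x * g ∈ centralizer (V : Set G) := by
      refine D.mem_CV_of_E (conj_of_cj' hQ hx) fun e he => ?_
      have h2 := mem_centralizer_iff.1 hxV (g * e * g⁻¹) (hE e he)
      calc g⁻¹ * x * g * e = g⁻¹ * (x * (g * e * g⁻¹)) * g := by group
        _ = g⁻¹ * ((g * e * g⁻¹) * x) * g := by rw [h2]
        _ = e * (g⁻¹ * x * g) := by group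
    have h2 := mem_centralizer_iff.1 h1 w hw
    calc g * w * g⁻¹ * x = g * (w * (g⁻¹ * x * g)) * g⁻¹ := by group
      _ = g * ((g⁻¹ * x * g) * w) * g⁻¹ := by rw [h2]
      _ = x * (g * w * g⁻¹) := by group
  obtain ⟨a, ha⟩ := D.isom_P (g := D.ac hK) (D.ac_ss hK) (fun m h1 h2 => by
    obtain ⟨x, hx, rfl⟩ := D.pi_surj m
    have h3 := hC x hx ((D.mem_P hx).1 ⟨h1, h2⟩)
    rw [D.ac_pi]
    refine D.pi_congr _ ?_ _
    rw [h3]
    group)
  have hvK := D.V_le_K (D.v_mem 0 0 0 a)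
  have h1 : D.ac hK = D.ac hvK := LinearEquiv.ext fun m => by rw [ha, D.ac_v]
  have h2 : D.ac (mul_mem hK (inv_mem hvK)) = 1 := by
    rw [D.ac_mul hK (inv_mem hvK), D.ac_inv hvK, h1, mul_inv_cancel]
  have h3 := D.mem_Q_of_ac _ h2
  have h4 : g * w * g⁻¹ * (v 0 0 0 a)⁻¹ ∈ V := by
    refine D.cent_CV h3 fun y hy hyV => ?_
    have e1 := hC y hy hyV
    have e2 := mem_centralizer_iff.1 hyV _ (inv_mem (D.v_mem 0 0 0 a))
    rw [mul_assoc, e2, ← mul_assoc, e1, mul_assoc]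
  have h5 := mul_mem h4 (D.v_mem 0 0 0 a)
  rwa [inv_mul_cancel_right] at h5

/-! ### the action on `N₁`, `N₂` -/

theorem ac_N₁₁ {k : G} (hk : k ∈ centralizer (R i0 j0 : Set G)) (h : cj k (rowG Q i0) = rowG Q i0)
    {m : D.Mo} (hm : m ∈ D.N₁) : D.ac hk m ∈ D.N₁ := by
  obtain ⟨x, hx, rfl⟩ := D.pi_surj m
  rw [D.mem_N₁] at hm
  rw [D.ac_pi, D.mem_N₁, ← h]
  exact conj_mem_cj hm

theorem ac_N₂₂ {k : G} (hk : k ∈ centralizer (R i0 j0 : Set G)) (h : cj k (colG Q j0) = colG Q j0)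
    {m : D.Mo} (hm : m ∈ D.N₂) : D.ac hk m ∈ D.N₂ := by
  obtain ⟨x, hx, rfl⟩ := D.pi_surj m
  rw [D.mem_N₂] at hm
  rw [D.ac_pi, D.mem_N₂, ← h]
  exact conj_mem_cj hm

theorem ac_N₁₂ {k : G} (hk : k ∈ centralizer (R i0 j0 : Set G)) (h : cj k (rowG Q i0) = colG Q j0)
    {m : D.Mo} (hm : m ∈ D.N₁) : D.ac hk m ∈ D.N₂ := by
  obtain ⟨x, hx, rfl⟩ := D.pi_surj m
  rw [D.mem_N₁] at hm
  rw [D.ac_pi, D.mem_N₂, ← h]
  exact conj_mem_cj hm

theorem ac_N₂₁ {k : G} (hk : k ∈ centralizer (R i0 j0 : Set G)) (h : cj k (colG Q j0) = rowG Q i0)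
    {m : D.Mo} (hm : m ∈ D.N₂) : D.ac hk m ∈ D.N₁ := by
  obtain ⟨x, hx, rfl⟩ := D.pi_surj m
  rw [D.mem_N₂] at hm
  rw [D.ac_pi, D.mem_N₁, ← h]
  exact conj_mem_cj hm

theorem mem_e_of_N₁ {a c : F} (h : a • D.e₁ + c • D.e₂ ∈ D.N₁) : c • D.e₂ = 0 := by
  have h1 : c • D.e₂ ∈ D.N₁ := by
    have := sub_mem h (Submodule.smul_mem _ a D.e₁_N₁)
    rwa [add_sub_cancel_left] at this
  exact (Submodule.disjoint_def.1 D.isCompl.disjoint) _ h1 (Submodule.smul_mem _ _ D.e₂_N₂)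

theorem mem_e_of_N₂ {a c : F} (h : a • D.e₁ + c • D.e₂ ∈ D.N₂) : a • D.e₁ = 0 := by
  have h1 : a • D.e₁ ∈ D.N₂ := by
    have := sub_mem h (Submodule.smul_mem _ c D.e₂_N₂)
    rwa [add_sub_cancel_right] at this
  exact (Submodule.disjoint_def.1 D.isCompl.disjoint) _ (Submodule.smul_mem _ _ D.e₁_N₁) h1

theorem ac_e₁ {k : G} (hk : k ∈ centralizer (V : Set G)) : D.ac (D.CV_le_K hk) D.e₁ = D.e₁ := by
  rw [e₁, D.ac_pi]
  refine D.pi_congr _ ?_ _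
  rw [← mem_centralizer_iff.1 hk _ (D.v_mem 0 1 0 0)]
  group

theorem ac_e₂ {k : G} (hk : k ∈ centralizer (V : Set G)) : D.ac (D.CV_le_K hk) D.e₂ = D.e₂ := by
  rw [e₂, D.ac_pi]
  refine D.pi_congr _ ?_ _
  rw [← mem_centralizer_iff.1 hk _ (D.v_mem 0 0 1 0)]
  group

theorem ac_CV {k : G} (hk : k ∈ centralizer (V : Set G)) (m : D.Mo) :
    D.ff D.e₁ (D.ac (D.CV_le_K hk) m - m) = 0 ∧ D.ff D.e₂ (D.ac (D.CV_le_K hk) m - m) = 0 := by
  constructor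
  · have h := D.ac_ff (D.CV_le_K hk) D.e₁ m
    rw [D.ac_e₁ hk] at h
    rw [map_sub, h, sub_self]
  · have h := D.ac_ff (D.CV_le_K hk) D.e₂ m
    rw [D.ac_e₂ hk] at h
    rw [map_sub, h, sub_self]

theorem J1 {φ : D.Mo} (hφ : φ ∈ D.N₂) (h0 : D.ff D.e₁ φ = 0) : ∃ z, ∃ hz : z ∈ centralizer (V : Set G),
    ∀ m, D.ff D.e₁ m = 0 → D.ff D.e₂ m = 0 → D.ac (D.CV_le_K hz) m = m + D.ff m φ • D.e₁ := by
  obtain ⟨y, hy, rfl⟩ := D.pi_surj φ
  rw [D.mem_N₂] at hφ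
  rw [D.ff_symm, D.ff_e₁] at h0
  have hyV : y ∈ centralizer (V : Set G) := (D.mem_CV hy).2 ⟨D.col_p y hφ, h0⟩
  obtain ⟨w, hw, hv⟩ := D.wey
  have hR : cj w (R i0 j0) = R i0 j1 := by
    ext x
    rw [mem_cj, D.R00, D.R01]
    constructor
    · rintro ⟨a, ha⟩
      refine ⟨a, ?_⟩
      rw [← hv a 0 0 0, ← ha]
      group
    · rintro ⟨a, rfl⟩
      refine ⟨a, ?_⟩
      rw [← hv a 0 0 0]
      group
  obtain ⟨hz, h1⟩ := D.grid.weyl D.rc D.hj hw hR hφ hyV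
  refine ⟨_, hz, fun m hm1 hm2 => ?_⟩
  obtain ⟨x, hx, rfl⟩ := D.pi_surj m
  have hxV := (D.mem_P hx).1 ⟨hm1, hm2⟩
  obtain ⟨a, ha, b, hb, haV, hbV, rfl⟩ := D.rc.cenV i0 j0 x hx hxV
  have haQ := D.rowG_le ha
  have hbQ := D.colG_le hb
  have h2 := h1 a ha haV b hb hbV
  obtain ⟨r, hr⟩ := (D.R00 _).1 (D.grid.QQ i0 j0 y hy a haQ)
  have hr' : ⁅y, a⁆ = v r 0 0 0 := hr
  rw [hr', hv] at h2
  have h3 : w * y * w⁻¹ * (a * b) * (w * y * w⁻¹)⁻¹ = v 0 r 0 0 * (a * b) := by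
    rw [← h2]
    simp only [commutatorElement_def]
    group
  have h4 : D.ff (D.pi hx) (D.pi hy) = r := by
    rw [D.pi_mul haQ hbQ, map_add, LinearMap.add_apply, D.ff_N₂ ((D.mem_N₂ hbQ).2 hb) ((D.mem_N₂ hy).2 hφ), add_zero,
      D.ff_symm, D.ff_pi, hr', D.ρ_v]
  rw [h4, D.ac_pi, D.pi_congr _ h3 (mul_mem (D.v_Q 0 r 0) hx), D.pi_mul (D.v_Q 0 r 0) hx, D.pi_v, zero_smul, add_zero,
    add_comm]

theorem J2 {φ : D.Mo} (hφ : φ ∈ D.N₁) (h0 : D.ff D.e₂ φ = 0) : ∃ z, ∃ hz : z ∈ centralizer (V : Set G),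
    ∀ m, D.ff D.e₁ m = 0 → D.ff D.e₂ m = 0 → D.ac (D.CV_le_K hz) m = m + D.ff m φ • D.e₂ := by
  obtain ⟨y, hy, rfl⟩ := D.pi_surj φ
  rw [D.mem_N₁] at hφ
  rw [D.ff_symm, D.ff_e₂] at h0
  have hyV : y ∈ centralizer (V : Set G) := (D.mem_CV hy).2 ⟨h0, D.row_p y hφ⟩
  obtain ⟨w, hw, hv⟩ := D.wey'
  have hR : cj w (R i0 j0) = R i1 j0 := by
    ext x
    rw [mem_cj, D.R00, D.R10]
    constructor
    · rintro ⟨a, ha⟩
      refine ⟨a, ?_⟩
      rw [← hv a 0 0 0, ← ha]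
      group
    · rintro ⟨a, rfl⟩
      refine ⟨a, ?_⟩
      rw [← hv a 0 0 0]
      group
  obtain ⟨hz, h1⟩ := D.grid.transpose.weyl (RC.transpose D.grid D.rc) D.hi hw hR hφ hyV
  refine ⟨_, hz, fun m hm1 hm2 => ?_⟩
  obtain ⟨x, hx, rfl⟩ := D.pi_surj m
  have hxV := (D.mem_P hx).1 ⟨hm1, hm2⟩
  obtain ⟨b, hb, a, ha, hbV, haV, rfl⟩ := (RC.transpose D.grid D.rc).cenV j0 i0 x hx hxV
  have haQ : a ∈ Q i0 j0 := D.rowG_le ha
  have hbQ : b ∈ Q i0 j0 := D.colG_le hb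
  have h2 := h1 b hb hbV a ha haV
  obtain ⟨r, hr⟩ := (D.R00 _).1 (D.grid.QQ i0 j0 y hy b hbQ)
  have hr' : ⁅y, b⁆ = v r 0 0 0 := hr
  rw [hr', hv] at h2
  have h3 : w * y * w⁻¹ * (b * a) * (w * y * w⁻¹)⁻¹ = v 0 0 r 0 * (b * a) := by
    rw [← h2]
    simp only [commutatorElement_def]
    group
  have h4 : D.ff (D.pi hx) (D.pi hy) = r := by
    rw [D.pi_mul hbQ haQ, map_add, LinearMap.add_apply, D.ff_N₁ ((D.mem_N₁ haQ).2 ha) ((D.mem_N₁ hy).2 hφ), add_zero,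
      D.ff_symm, D.ff_pi, hr', D.ρ_v]
  rw [h4, D.ac_pi, D.pi_congr _ h3 (mul_mem (D.v_Q 0 0 r) hx), D.pi_mul (D.v_Q 0 0 r) hx, D.pi_v, zero_smul, zero_add,
    add_comm]

/-- an element of `K` whose image preserves `e` -/
theorem norm_e {k : G} (hk : k ∈ centralizer (R i0 j0 : Set G))
    (h₁ : ∃ a c : F, D.ac hk D.e₁ = a • D.e₁ + c • D.e₂) (h₂ : ∃ a c : F, D.ac hk D.e₂ = a • D.e₁ + c • D.e₂) :
    cj k V = V := by
  refine D.cjV (D.cj_R_of_K hk) fun x hx => ?_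
  obtain ⟨a, b, c, rfl⟩ := D.mem_E.1 hx
  obtain ⟨a₁, c₁, h₁⟩ := h₁
  obtain ⟨a₂, c₂, h₂⟩ := h₂
  rw [← D.mem_e_E (D.K_norm hk hx.2), ← D.ac_pi hk hx.2]
  refine ⟨b * a₁ + c * a₂, b * c₁ + c * c₂, ?_⟩
  have h3 : D.pi hx.2 = b • D.e₁ + c • D.e₂ := D.pi_v a b c
  rw [h3, map_add, map_smul, map_smul, h₁, h₂]
  module

theorem Se {k : G} (hk : k ∈ centralizer (R i0 j0 : Set G))
    (h₁ : ∃ a c : F, D.ac hk D.e₁ = a • D.e₁ + c • D.e₂) (h₂ : ∃ a c : F, D.ac hk D.e₂ = a • D.e₁ + c • D.e₂) :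
    ((∃ a : F, D.ac hk D.e₁ = a • D.e₁) ∧ ∃ a : F, D.ac hk D.e₂ = a • D.e₂) ∨
      ((∃ a : F, D.ac hk D.e₁ = a • D.e₂) ∧ ∃ a : F, D.ac hk D.e₂ = a • D.e₁) := by
  have hV := D.norm_e hk h₁ h₂
  obtain ⟨a₁, c₁, h₁⟩ := h₁
  obtain ⟨a₂, c₂, h₂⟩ := h₂
  rcases D.norm k hV (D.cj_R_of_K hk) with ⟨hA, hB⟩ | ⟨hA, hB⟩
  · left
    have k1 := D.ac_N₁₁ hk hA D.e₁_N₁
    have k2 := D.ac_N₂₂ hk hB D.e₂_N₂
    rw [h₁] at k1
    rw [h₂] at k2
    refine ⟨⟨a₁, ?_⟩, c₂, ?_⟩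
    · rw [h₁, D.mem_e_of_N₁ k1, add_zero]
    · rw [h₂, D.mem_e_of_N₂ k2, zero_add]
  · right
    have k1 := D.ac_N₁₂ hk hA D.e₁_N₁
    have k2 := D.ac_N₂₁ hk hB D.e₂_N₂
    rw [h₁] at k1
    rw [h₂] at k2
    refine ⟨⟨c₁, ?_⟩, a₂, ?_⟩
    · rw [h₁, D.mem_e_of_N₂ k1, zero_add]
    · rw [h₂, D.mem_e_of_N₁ k2, add_zero]

/-- `C_G(V)` normalises the row group and the column group -/
theorem CV_norm {c : G} (hc : c ∈ centralizer (V : Set G)) : cj c (rowG Q i0) = rowG Q i0 ∧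
    cj c (colG Q j0) = colG Q j0 := by
  have h1 : ∀ i j, cj c (Q i j) = Q i j := fun i j => D.grid.conj c i j i j
    (cj_eq_of_comm fun r hr => (mem_centralizer_iff.1 hc r (D.grid.R_le _ _ hr)).symm)
  constructor
  · refine cj_eq_of_le fun x hx => mem_iInf.2 fun j => ?_
    rw [← h1 i0 j]
    exact conj_mem_cj (mem_iInf.1 hx j)
  · refine cj_eq_of_le fun x hx => mem_iInf.2 fun i => ?_
    rw [← h1 i j0]
    exact conj_mem_cj (mem_iInf.1 hx i)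

/-- `Q` normalises the row group and the column group -/
theorem Q_norm {c : G} (hc : c ∈ Q i0 j0) : cj c (rowG Q i0) = rowG Q i0 ∧ cj c (colG Q j0) = colG Q j0 := by
  constructor
  · refine cj_eq_of_le fun x hx => ?_
    have h1 := D.rc.R_row i0 j0 (D.grid.QQ i0 j0 c hc x (D.rowG_le hx))
    have h2 := mul_mem h1 hx
    rwa [inv_mul_cancel_right] at h2
  · refine cj_eq_of_le fun x hx => ?_
    have h1 := D.rc.R_col i0 j0 (D.grid.QQ i0 j0 c hc x (D.colG_le hx))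
    have h2 := mul_mem h1 hx
    rwa [inv_mul_cancel_right] at h2

theorem Jpres {k : G} (hk : k ∈ centralizer (R i0 j0 : Set G)) (h₁ : D.ac hk D.e₁ = D.e₁)
    (h₂ : D.ac hk D.e₂ = D.e₂) : cj k (rowG Q i0) = rowG Q i0 ∧ cj k (colG Q j0) = colG Q j0 := by
  have hV := D.norm_e hk ⟨1, 0, by rw [h₁]; module⟩ ⟨0, 1, by rw [h₂]; module⟩
  have hN := mem_normalizer_of_cj hV
  obtain ⟨x, hx, h3⟩ := D.actU k hN
    (fun a => by
      have := D.mem_K.1 hk _ ((D.R00 _).2 ⟨a, rfl⟩)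
      rw [this]; group)
    (fun b c => by
      have h4 : D.pi (D.K_norm hk (D.v_Q 0 b c)) = b • D.e₁ + c • D.e₂ := by
        rw [← D.ac_pi hk (D.v_Q 0 b c), D.pi_v, map_add, map_smul, map_smul, h₁, h₂]
      obtain ⟨a, ha⟩ := D.mem_e b c rfl (D.K_norm hk (D.v_Q 0 b c)) h4
      exact ⟨a, ha⟩)
    (fun d => by
      have h4 := conj_of_cj hV (D.v_mem 0 0 0 d)
      obtain ⟨a, b, c, d', h5⟩ := D.v_surj _ h4
      have h6 : d' = d := by
        -- compare the actions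
        obtain ⟨c₁, hc₁, k1⟩ := D.exists_c₁
        have k2 : D.ff c₁ D.e₁ = 0 := D.ff_N₁ hc₁ D.e₁_N₁
        have hkinv : ∀ m, D.ac (inv_mem hk) m = (D.ac hk)⁻¹ m := fun m => by rw [D.ac_inv hk]
        have hconj : k * v 0 0 0 d = (v a b c d') * k := by rw [h5]; group
        have hvK := D.V_le_K (D.v_mem 0 0 0 d)
        have hvK' := D.V_le_K (D.v_mem a b c d')
        have hvK'' := D.V_le_K (D.v_mem 0 0 0 d')
        have e1 : D.ac hk * D.ac hvK = D.ac hvK' * D.ac hk := by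
          rw [← D.ac_mul hk hvK, ← D.ac_mul hvK' hk]
          congr 1
        have e2 : D.ac hvK' = D.ac hvK'' := by
          have e3 : v a b c d' = v a b c 0 * v 0 0 0 d' := by
            rw [D.v_mul]; simp
          have e4 : D.ac hvK' = D.ac (D.Q_le_K (D.v_Q a b c)) * D.ac hvK'' := by
            rw [← D.ac_mul]
            congr 1
          rw [e4, D.ac_Q (D.v_Q a b c), one_mul]
        -- evaluate
        have hc : ∃ m, D.ac hk m = c₁ := ⟨(D.ac hk)⁻¹ c₁, (D.ac hk).apply_symm_apply c₁⟩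
        obtain ⟨m, hm⟩ := hc
        have e5 := LinearEquiv.congr_fun e1 m
        rw [LinearEquiv.mul_apply, LinearEquiv.mul_apply, e2, D.ac_v, D.ac_v, hm, map_add, hm, map_smul, map_add,
          map_smul, map_smul, h₁, h₂] at e5
        have e6 : D.ff m D.e₁ = 0 := by
          rw [← D.ac_ff hk, h₁, hm, k2]
        have e7 : D.ff m D.e₂ = 1 := by
          rw [← D.ac_ff hk, h₂, hm, k1]
        rw [e6, e7, k1, k2, zero_smul, zero_add, one_smul] at e5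
        have e8 : d • D.e₁ = d' • D.e₁ := add_left_cancel e5
        exact (smul_left_injective F D.e₁_ne e8).symm
      rw [← h5, h6]
      exact ⟨a, b, c, rfl⟩)
  obtain ⟨q1, q2⟩ := D.Q_norm hx
  obtain ⟨q3, q4⟩ := D.CV_norm h3
  have e : k = k * x⁻¹ * x := by group
  constructor
  · rw [e, cj_mul, q1, q3]
  · rw [e, cj_mul, q2, q4]

/-- **The input of THEOREM SL.** -/
noncomputable def dec : SL.Dec F D.Mo where
  two := D.two
  four := D.four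
  f := D.ff
  s := D.ss
  s_add := D.ss_add
  s_smul := D.ss_smul
  nondeg := D.ff_nondeg
  H := D.inp.act.range
  isom := by
    rintro _ ⟨k, rfl⟩ m
    exact D.ac_ss k.2 m
  N₁ := D.N₁
  N₂ := D.N₂
  isCompl := D.isCompl
  sing₁ := fun _ => D.sing₁
  sing₂ := fun _ => D.sing₂
  e₁ := D.e₁
  e₂ := D.e₂
  e₁_mem := D.e₁_N₁
  e₂_mem := D.e₂_N₂
  e₁_ne := D.e₁_ne
  e₂_ne := D.e₂_ne
  perp := D.perp
  Jpres := by
    rintro _ ⟨k, rfl⟩ h1 h2 _ _
    obtain ⟨h3, h4⟩ := D.Jpres k.2 h1 h2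
    exact ⟨fun m hm => D.ac_N₁₁ k.2 h3 hm, fun m hm => D.ac_N₂₂ k.2 h4 hm⟩
  J0 := fun a => ⟨D.ac (D.V_le_K (D.v_mem 0 0 0 a)), ⟨_, rfl⟩, D.ac_v a⟩
  J1 := fun φ hφ h0 => by
    obtain ⟨z, hz, h⟩ := D.J1 hφ h0
    exact ⟨_, ⟨_, rfl⟩, h, D.ac_CV hz⟩
  J2 := fun φ hφ h0 => by
    obtain ⟨z, hz, h⟩ := D.J2 hφ h0
    exact ⟨_, ⟨_, rfl⟩, h, D.ac_CV hz⟩
  Se := by
    rintro _ ⟨k, rfl⟩ h1 h2
    exact D.Se k.2 h1 h2
  Om := fun N h => by
    refine D.inp.span N fun k x hx => ?_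
    obtain ⟨a, b, c, rfl⟩ := D.mem_E.1 hx
    have h1 := h (D.inp.act k) ⟨k, rfl⟩
    have h2 : D.inp.π (v a b c 0) (D.inp.E_le hx) = b • D.e₁ + c • D.e₂ := D.pi_v a b c
    rw [h2, map_add, map_smul, map_smul]
    exact add_mem (Submodule.smul_mem _ _ h1.1) (Submodule.smul_mem _ _ h1.2)

end Gin

end Cfsg.Agent.Omega.NO1.Gamma

end

section


/-!
# Type (gamma), `q ≥ 4`: (I2), (I3) of bb #15588: `N_G(R)` permutes the row group and the column group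

`Gin.pout : POut V (R i0 j0) (rowG Q i0) (colG Q j0)`.
-/

set_option autoImplicit false
set_option linter.unusedVariables false
set_option linter.unusedSectionVars false
set_option linter.unusedSimpArgs false

open Subgroup
open scoped Pointwise commutatorElement

namespace Cfsg.Agent.Omega.NO1.Gamma

open Cfsg.Agent.Omega.NO1.Beta.Meet (cj mem_cj conj_mem_cj cj_mul cj_inj cj_eq_of_comm
  mem_normalizer_of_cj cj_of_mem_normalizer)
open Cfsg.Agent.Omega.NOne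

namespace Gin

variable {F : Type*} [Field F] {G : Type*} [Group G] {I J : Type*} {S : Sylow 2 G} {V : Subgroup G}
  {R Q : I → J → Subgroup G} {i0 i1 : I} {j0 j1 : J} {v : F → F → F → F → G} {p p' : G → F}
  (D : Gin F S V R Q i0 i1 j0 j1 v p p') [Finite G]

include D

omit D in
theorem card_cj (g : G) (H : Subgroup G) : Nat.card (cj g H) = Nat.card H :=
  Nat.card_congr
    ⟨fun x => ⟨g⁻¹ * x * g, mem_cj.1 x.2⟩, fun x => ⟨g * x * g⁻¹, conj_mem_cj x.2⟩,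
      fun x => Subtype.ext (by change g * (g⁻¹ * (x : G) * g) * g⁻¹ = x; group),
      fun x => Subtype.ext (by change g⁻¹ * (g * (x : G) * g⁻¹) * g = x; group)⟩

omit D in
theorem cj_le {g : G} {A B : Subgroup G} (h : ∀ x ∈ A, g * x * g⁻¹ ∈ B) : cj g A ≤ B := by
  intro x hx
  rw [mem_cj] at hx
  have := h _ hx
  have e : g * (g⁻¹ * x * g) * g⁻¹ = x := by group
  rwa [e] at this

omit D in
theorem cj_swap {g : G} {A B : Subgroup G} (h1 : ∀ x ∈ A, g * x * g⁻¹ ∈ B) (h2 : ∀ x ∈ B, g * x * g⁻¹ ∈ A) :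
    cj g A = B ∧ cj g B = A := by
  have l1 := cj_le h1
  have l2 := cj_le h2
  have c1 : Nat.card A ≤ Nat.card B := by rw [← card_cj g A]; exact Subgroup.card_le_of_le l1
  have c2 : Nat.card B ≤ Nat.card A := by rw [← card_cj g B]; exact Subgroup.card_le_of_le l2
  exact ⟨Subgroup.eq_of_le_of_card_ge l1 (by rw [card_cj]; exact c2),
    Subgroup.eq_of_le_of_card_ge l2 (by rw [card_cj]; exact c1)⟩

theorem norm_of_ac {k : G} (hk : k ∈ centralizer (R i0 j0 : Set G))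
    (h : ((∀ m ∈ D.N₁, D.ac hk m ∈ D.N₁) ∧ ∀ m ∈ D.N₂, D.ac hk m ∈ D.N₂) ∨
      ((∀ m ∈ D.N₁, D.ac hk m ∈ D.N₂) ∧ ∀ m ∈ D.N₂, D.ac hk m ∈ D.N₁)) :
    (cj k (rowG Q i0) = rowG Q i0 ∧ cj k (colG Q j0) = colG Q j0) ∨
      (cj k (rowG Q i0) = colG Q j0 ∧ cj k (colG Q j0) = rowG Q i0) := by
  rcases h with ⟨h1, h2⟩ | ⟨h1, h2⟩
  · left
    refine ⟨cj_eq_of_le fun x hx => ?_, cj_eq_of_le fun x hx => ?_⟩
    · have := h1 _ ((D.mem_N₁ (D.rowG_le hx)).2 hx)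
      rwa [D.ac_pi, D.mem_N₁] at this
    · have := h2 _ ((D.mem_N₂ (D.colG_le hx)).2 hx)
      rwa [D.ac_pi, D.mem_N₂] at this
  · right
    refine cj_swap (fun x hx => ?_) fun x hx => ?_
    · have := h1 _ ((D.mem_N₁ (D.rowG_le hx)).2 hx)
      rwa [D.ac_pi, D.mem_N₂] at this
    · have := h2 _ ((D.mem_N₂ (D.colG_le hx)).2 hx)
      rwa [D.ac_pi, D.mem_N₁] at this

/-- conjugation by an element of `N_G(R)` normalises `C_G(R)` -/
theorem conj_K {g : G} (hR : cj g (R i0 j0) = R i0 j0) {k : G} (hk : k ∈ centralizer (R i0 j0 : Set G)) :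
    g * k * g⁻¹ ∈ centralizer (R i0 j0 : Set G) := by
  rw [D.mem_K]
  intro r hr
  have h1 := D.mem_K.1 hk _ (conj_of_cj' hR hr)
  calc g * k * g⁻¹ * r = g * (k * (g⁻¹ * r * g)) * g⁻¹ := by group
    _ = g * ((g⁻¹ * r * g) * k) * g⁻¹ := by rw [h1]
    _ = r * (g * k * g⁻¹) := by group

/-! ### (I3) -/

/-- **THEOREM SL with `M_i = N_i`.** -/
theorem out : SL.Spl.Out D.dec.spl D.N₁ D.N₂ := by
  obtain ⟨M₁, M₂, O⟩ := D.dec.spl.main
  obtain ⟨y, hy0, hy1⟩ := D.four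
  obtain ⟨t, ht, hv⟩ := D.tor' y hy0
  -- `t` normalises `R`, `Q`, `V`, the row group and the column group
  have hR : cj t (R i0 j0) = R i0 j0 := cj_eq_of_le fun x hx => by
    obtain ⟨a, rfl⟩ := (D.R00 x).1 hx
    rw [hv]
    simp only [mul_zero]
    exact (D.R00 _).2 ⟨_, rfl⟩
  have hQ := D.cj_Q hR
  have hV : cj t V = V := cj_eq_of_le fun x hx => by
    obtain ⟨a, b, c, d, rfl⟩ := D.v_surj x hx
    rw [hv]
    exact D.v_mem _ _ _ _
  have hAB : cj t (rowG Q i0) = rowG Q i0 ∧ cj t (colG Q j0) = colG Q j0 := by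
    refine (D.norm t hV hR).resolve_right ?_
    rintro ⟨h1, -⟩
    have h2 := conj_mem_cj (c := t) ((D.row_V 0 1 0 0).2 ⟨rfl, rfl⟩)
    rw [h1, hv, D.col_V] at h2
    rw [mul_one] at h2
    exact hy0 h2.1
  have nor : FStr.Inp.Nor D.inp t y :=
    { Q₁ := fun x hx => conj_of_cj hQ hx
      Q₂ := fun x hx => conj_of_cj' hQ hx
      R₁ := fun r hr => by
        obtain ⟨a, rfl⟩ := (D.R00 r).1 hr
        refine ⟨conj_of_cj hR hr, ?_⟩
        change ρ v (t * v a 0 0 0 * t⁻¹) = y * ρ v (v a 0 0 0)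
        rw [hv]
        simp only [mul_zero]
        rw [D.ρ_v, D.ρ_v] }
  have hR' : ∀ r ∈ D.inp.R, t⁻¹ * r * t ∈ D.inp.R := fun r hr => conj_of_cj' hR hr
  let h : D.Mo ≃ₗ[F] D.Mo := nor.equiv hy0 hR'
  have h_pi : ∀ {x : G} (hx : x ∈ Q i0 j0), h (D.pi hx) = D.pi (conj_of_cj hQ hx) := fun hx =>
    nor.equiv_π hy0 hR' hx
  have h₁ : h D.e₁ = y • D.e₁ := by
    rw [e₁, h_pi]
    have e : t * v 0 1 0 0 * t⁻¹ = v 0 y 0 0 := by rw [hv]; simp
    rw [D.pi_congr _ e (D.v_Q 0 y 0), D.pi_v, zero_smul, add_zero]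
    rfl
  have h₂ : h D.e₂ = y⁻¹ • D.e₂ := by
    rw [e₂, h_pi]
    have e : t * v 0 0 1 0 * t⁻¹ = v 0 0 y⁻¹ 0 := by rw [hv]; simp
    rw [D.pi_congr _ e (D.v_Q 0 0 y⁻¹), D.pi_v, zero_smul, zero_add]
    rfl
  have hff : ∀ m n, D.ff (h m) (h n) = y * D.ff m n := by
    intro m n
    obtain ⟨x, hx, rfl⟩ := D.pi_surj m
    obtain ⟨z, hz, rfl⟩ := D.pi_surj n
    rw [h_pi, h_pi, D.ff_pi, D.ff_pi]
    have h3 := (nor.R₁ _ (D.grid.QQ i0 j0 x hx z hz)).2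
    have e : ⁅t * x * t⁻¹, t * z * t⁻¹⁆ = t * (x * z * x⁻¹ * z⁻¹) * t⁻¹ := by
      simp only [commutatorElement_def]; group
    rw [e]
    exact h3
  have hN₁ : ∀ m ∈ D.N₁, h m ∈ D.N₁ := by
    intro m hm
    obtain ⟨x, hx, rfl⟩ := D.pi_surj m
    rw [D.mem_N₁] at hm
    rw [h_pi, D.mem_N₁]
    exact conj_of_cj hAB.1 hm
  have k₂ : ∀ m ∈ D.N₂, (D.ff D.e₁ m = 0 ∧ D.ff D.e₂ m = 0) → ∃ a : F, h m - m = a • D.e₂ := by
    intro m hm hP
    obtain ⟨x, hx, rfl⟩ := D.pi_surj m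
    rw [D.mem_N₂] at hm
    have hxV := (D.mem_P hx).1 hP
    have h3 := (D.grid.transpose.col_mod (RC.transpose D.grid D.rc) ht j0).2 x hm hxV
    have h4 : x⁻¹ * (t * x * t⁻¹) ∈ colG Q j0 := mul_mem (inv_mem hm) (conj_of_cj hAB.2 hm)
    obtain ⟨a, b, c, d, h5⟩ := D.v_surj _ h3
    obtain ⟨hb, hd⟩ := (D.col_V a b c d).1 (by rw [h5]; exact h4)
    subst hb hd
    refine ⟨c, ?_⟩
    have h6 : t * x * t⁻¹ = x * v a 0 c 0 := by rw [h5]; group
    rw [h_pi, D.pi_congr _ h6 (mul_mem hx (D.v_Q a 0 c)), D.pi_mul hx (D.v_Q a 0 c), D.pi_v]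
    module
  have k₁ : ∀ m ∈ D.N₁, (D.ff D.e₁ m = 0 ∧ D.ff D.e₂ m = 0) → ∃ a : F, h m - y • m = a • D.e₁ := by
    intro m hm hP
    have hz1 : h m - y • m ∈ D.N₁ := sub_mem (hN₁ m hm) (Submodule.smul_mem _ _ hm)
    obtain ⟨w, hw, hwz⟩ := D.pi_surj (h m - y • m)
    have h3 : w ∈ V := by
      refine D.cent_CV hw fun u hu huV => ?_
      rw [← D.ff_pi_iff hw hu, hwz]
      obtain ⟨a, ha, b, hb, haV, hbV, rfl⟩ := D.rc.cenV i0 j0 u hu huV
      have hbQ := D.colG_le hb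
      rw [D.pi_mul (D.rowG_le ha) hbQ, map_add, D.ff_N₁ hz1 ((D.mem_N₁ _).2 ha), zero_add]
      obtain ⟨c, hc⟩ := k₂ _ ((D.mem_N₂ hbQ).2 hb) ((D.mem_P hbQ).2 hbV)
      have h4 := hff m (D.pi hbQ)
      have h5 : h (D.pi hbQ) = D.pi hbQ + c • D.e₂ := by rw [← hc]; abel
      have h6 : D.ff (h m) D.e₂ = 0 := by
        have h7 := hff m D.e₂
        rw [h₂, D.ff_symm m, hP.2, mul_zero, map_smul, smul_eq_mul] at h7
        exact (mul_eq_zero.1 h7).resolve_left (inv_ne_zero hy0)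
      rw [h5, map_add, map_smul, h6, smul_zero, add_zero] at h4
      rw [map_sub, LinearMap.sub_apply, h4, map_smul, LinearMap.smul_apply, smul_eq_mul, sub_self]
    obtain ⟨b, c, h4⟩ := (D.mem_e_E hw).2 h3
    rw [hwz] at h4
    rw [h4] at hz1
    exact ⟨b, by rw [h4, D.mem_e_of_N₁ hz1, add_zero]⟩
  have hH : ∀ g ∈ D.dec.spl.H, h * g * h⁻¹ ∈ D.dec.spl.H := by
    rintro _ ⟨k, rfl⟩
    exact ⟨⟨t * k * t⁻¹, D.conj_K hR k.2⟩, (nor.conj_act hy0 hR' k _).symm⟩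
  obtain ⟨e1, e2⟩ := O.eq_of_torus D.isCompl (fun _ => D.sing₁) (fun _ => D.sing₂) D.e₁_N₁ D.e₂_N₂
    (fun m hm hP => D.dec.y₂_N₁ (m := m) hP hm) (fun m hm hP => D.dec.y₁_N₂ (m := m) hP hm)
    hH hy0 hy1 h₁ h₂ k₁ k₂
  rwa [e1, e2] at O

/-! ### `POut` -/

theorem perm_K {k : G} (hk : k ∈ centralizer (R i0 j0 : Set G)) :
    (cj k (rowG Q i0) = rowG Q i0 ∧ cj k (colG Q j0) = colG Q j0) ∨
      (cj k (rowG Q i0) = colG Q j0 ∧ cj k (colG Q j0) = rowG Q i0) :=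
  D.norm_of_ac hk (D.out.perm (D.ac hk) ⟨⟨k, hk⟩, rfl⟩)

/-- transitivity on the incident pairs -/
theorem orbit {m φ : D.Mo} (hm : m ∈ D.N₁) (hφ : φ ∈ D.N₂) (h1 : m ≠ 0) (h2 : φ ≠ 0) (h3 : D.ff m φ = 0) :
    ∃ k, ∃ hk : k ∈ centralizer (R i0 j0 : Set G), cj k (rowG Q i0) = rowG Q i0 ∧ cj k (colG Q j0) = colG Q j0 ∧
      ∃ a c : F, D.ac hk m = a • D.e₁ ∧ D.ac hk φ = c • D.e₂ := by
  obtain ⟨_, ⟨k, rfl⟩, h4, a, c, ha, hc, h5, h6⟩ := D.out.orbit m hm φ hφ h1 h2 h3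
  have h7 : cj (k : G) (rowG Q i0) = rowG Q i0 ∧ cj (k : G) (colG Q j0) = colG Q j0 := by
    constructor
    · refine cj_eq_of_le fun x hx => ?_
      have := h4.1 _ ((D.mem_N₁ (D.rowG_le hx)).2 hx)
      exact (D.mem_N₁ _).1 ((D.ac_pi k.2 (D.rowG_le hx)) ▸ this)
    · refine cj_eq_of_le fun x hx => ?_
      have := h4.2 _ ((D.mem_N₂ (D.colG_le hx)).2 hx)
      exact (D.mem_N₂ _).1 ((D.ac_pi k.2 (D.colG_le hx)) ▸ this)
  have h5' : D.ac k.2 D.e₁ = a • m := h5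
  have h6' : D.ac k.2 D.e₂ = c • φ := h6
  refine ⟨(k : G)⁻¹, inv_mem k.2, cj_inv_of h7.1, cj_inv_of h7.2, a⁻¹, c⁻¹, ?_, ?_⟩
  · rw [D.ac_inv k.2, ← inv_smul_smul₀ ha m, ← h5', map_smul]
    congr 1
    exact (D.ac k.2).symm_apply_apply _
  · rw [D.ac_inv k.2, ← inv_smul_smul₀ hc φ, ← h6', map_smul]
    congr 1
    exact (D.ac k.2).symm_apply_apply _

theorem tran {x : G} (hx : x ∈ rowG Q i0) (hx0 : x ∉ R i0 j0) {y : G} (hy : y ∈ colG Q j0) (hy0 : y ∉ R i0 j0)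
    (hxy : x * y = y * x) : ∃ g : G, cj g (R i0 j0) = R i0 j0 ∧ cj g (rowG Q i0) = rowG Q i0 ∧
      cj g (colG Q j0) = colG Q j0 ∧ g * x * g⁻¹ ∈ V ∧ g * y * g⁻¹ ∈ V := by
  have hxQ := D.rowG_le hx
  have hyQ := D.colG_le hy
  obtain ⟨k, hk, h1, h2, a, c, h3, h4⟩ := D.orbit ((D.mem_N₁ hxQ).2 hx) ((D.mem_N₂ hyQ).2 hy)
    (fun h => hx0 ((D.pi_eq_zero _).1 h)) (fun h => hy0 ((D.pi_eq_zero _).1 h)) ((D.ff_pi_iff hxQ hyQ).2 hxy)
  rw [D.ac_pi] at h3 h4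
  exact ⟨k, D.cj_R_of_K hk, h1, h2, (D.mem_e_E _).1 ⟨a, 0, by rw [h3]; module⟩,
    (D.mem_e_E _).1 ⟨0, c, by rw [h4]; module⟩⟩

/-- an incident partner -/
theorem partner₁ (m : D.Mo) : ∃ φ ∈ D.N₂, φ ≠ 0 ∧ D.ff m φ = 0 := by
  by_cases h1 : D.ff m D.e₂ = 0
  · exact ⟨D.e₂, D.e₂_N₂, D.e₂_ne, h1⟩
  · obtain ⟨c, hc, h2⟩ := D.exists_c₂
    refine ⟨c - (D.ff m c * (D.ff m D.e₂)⁻¹) • D.e₂, sub_mem hc (Submodule.smul_mem _ _ D.e₂_N₂), ?_, ?_⟩
    · intro h3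
      have h4 : D.ff (c - (D.ff m c * (D.ff m D.e₂)⁻¹) • D.e₂) D.e₁ = 0 := by rw [h3, map_zero, LinearMap.zero_apply]
      rw [map_sub, LinearMap.sub_apply, h2, map_smul, LinearMap.smul_apply, D.ff_symm D.e₂, D.perp, smul_zero,
        sub_zero] at h4
      exact one_ne_zero h4
    · rw [map_sub, map_smul, smul_eq_mul, mul_assoc, inv_mul_cancel₀ h1, mul_one, sub_self]

theorem partner₂ (m : D.Mo) : ∃ φ ∈ D.N₁, φ ≠ 0 ∧ D.ff m φ = 0 := by
  by_cases h1 : D.ff m D.e₁ = 0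
  · exact ⟨D.e₁, D.e₁_N₁, D.e₁_ne, h1⟩
  · obtain ⟨c, hc, h2⟩ := D.exists_c₁
    refine ⟨c - (D.ff m c * (D.ff m D.e₁)⁻¹) • D.e₁, sub_mem hc (Submodule.smul_mem _ _ D.e₁_N₁), ?_, ?_⟩
    · intro h3
      have h4 : D.ff (c - (D.ff m c * (D.ff m D.e₁)⁻¹) • D.e₁) D.e₂ = 0 := by rw [h3, map_zero, LinearMap.zero_apply]
      rw [map_sub, LinearMap.sub_apply, h2, map_smul, LinearMap.smul_apply, D.perp, smul_zero, sub_zero] at h4
      exact one_ne_zero h4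
    · rw [map_sub, map_smul, smul_eq_mul, mul_assoc, inv_mul_cancel₀ h1, mul_one, sub_self]

/-- **`N_G(R)` permutes the row group and the column group.** -/
theorem perm {g : G} (hR : cj g (R i0 j0) = R i0 j0) :
    (cj g (rowG Q i0) = rowG Q i0 ∧ cj g (colG Q j0) = colG Q j0) ∨
      (cj g (rowG Q i0) = colG Q j0 ∧ cj g (colG Q j0) = rowG Q i0) := by
  have hfin := D.finite_F
  have hQ := D.cj_Q hR
  -- an element of `V ∖ Q` whose conjugate preserves the row group and the column group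
  obtain ⟨d, hd, hdA, hdB⟩ : ∃ d : F, d ≠ 0 ∧ cj (g * v 0 0 0 d * g⁻¹) (rowG Q i0) = rowG Q i0 ∧
      cj (g * v 0 0 0 d * g⁻¹) (colG Q j0) = colG Q j0 := by
    obtain ⟨y, hy0, hy1⟩ := D.four
    have hK : ∀ d, g * v 0 0 0 d * g⁻¹ ∈ centralizer (R i0 j0 : Set G) := fun d =>
      D.conj_K hR (D.V_le_K (D.v_mem _ _ _ _))
    rcases D.perm_K (hK 1) with h1 | h1
    · exact ⟨1, one_ne_zero, h1⟩
    rcases D.perm_K (hK y) with h2 | h2
    · exact ⟨y, hy0, h2⟩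
    refine ⟨1 + y, ?_, ?_⟩
    · intro h3
      exact hy1 (by linear_combination h3 - D.two)
    · have e : g * v 0 0 0 (1 + y) * g⁻¹ = (g * v 0 0 0 1 * g⁻¹) * (g * v 0 0 0 y * g⁻¹) := by
        have e1 : v 0 0 0 (1 + y) = v 0 0 0 1 * v 0 0 0 y := by
          rw [D.v_mul]; simp
        rw [e1]; group
      rw [e]
      generalize g * v 0 0 0 1 * g⁻¹ = k₁ at h1 ⊢
      generalize g * v 0 0 0 y * g⁻¹ = k₂ at h2 ⊢
      rw [cj_mul, cj_mul, h2.1, h2.2, h1.1, h1.2]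
      exact ⟨rfl, rfl⟩
  set u := g * v 0 0 0 d * g⁻¹ with hu
  have huK : u ∈ centralizer (R i0 j0 : Set G) := D.conj_K hR (D.V_le_K (D.v_mem _ _ _ _))
  -- `(τ - 1) M = g E g⁻¹ / R`
  have hgQ : ∀ b c, g * v 0 b c 0 * g⁻¹ ∈ Q i0 j0 := fun b c => conj_of_cj hQ (D.v_Q 0 b c)
  have key : ∀ {x : G} (hx : x ∈ Q i0 j0), D.ac huK (D.pi (conj_of_cj hQ hx)) - D.pi (conj_of_cj hQ hx) =
      D.pi (hgQ (p x * d) (p' x * d)) := by
    intro x hx
    rw [D.ac_pi, sub_eq_iff_eq_add, ← D.pi_mul (hgQ _ _) (conj_of_cj hQ hx) (mul_mem (hgQ _ _) (conj_of_cj hQ hx)),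
      D.pi_eq_iff]
    have e1 := D.comm_v hx 0 0 0 d
    rw [mul_zero, mul_zero, zero_add, zero_add] at e1
    have e2 : u * (g * x * g⁻¹) * u⁻¹ = g * (⁅v 0 0 0 d, x⁆ * x) * g⁻¹ := by
      rw [hu]; simp only [commutatorElement_def]; group
    have e3 : v (p x * p' x * d) (p x * d) (p' x * d) 0 = v (p x * p' x * d) 0 0 0 * v 0 (p x * d) (p' x * d) 0 := by
      rw [D.v_mul]; simp
    rw [e2, e1, e3]
    have e4 : (g * (v (p x * p' x * d) 0 0 0 * v 0 (p x * d) (p' x * d) 0 * x) * g⁻¹)⁻¹ *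
        (g * v 0 (p x * d) (p' x * d) 0 * g⁻¹ * (g * x * g⁻¹)) =
        g * ((v 0 (p x * d) (p' x * d) 0 * x)⁻¹ * (v (p x * p' x * d) 0 0 0)⁻¹ * (v 0 (p x * d) (p' x * d) 0 * x)) *
          g⁻¹ := by
      group
    rw [e4]
    apply conj_of_cj hR
    have e5 : (v (p x * p' x * d) 0 0 0)⁻¹ ∈ R i0 j0 := inv_mem ((D.R00 _).2 ⟨_, rfl⟩)
    have e6 := D.grid.RQ i0 j0 _ e5 _ (mul_mem (D.v_Q 0 (p x * d) (p' x * d)) hx)
    rw [mul_assoc, e6, inv_mul_cancel_left]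
    exact e5
  -- the map `F × F → M`
  let E' : F × F → D.Mo := fun bc => D.pi (hgQ bc.1 bc.2)
  have hE1 : ∀ m, ∃ bc, D.ac huK m - m = E' bc := by
    intro m
    obtain ⟨x, hx, rfl⟩ := D.pi_surj m
    have hx' : g⁻¹ * x * g ∈ Q i0 j0 := conj_of_cj' hQ hx
    refine ⟨⟨p (g⁻¹ * x * g) * d, p' (g⁻¹ * x * g) * d⟩, ?_⟩
    have e1 := key hx'
    have e2 : D.pi (conj_of_cj hQ hx') = D.pi hx := D.pi_congr _ (by group) _
    rw [e2] at e1
    exact e1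
  have hE2 : ∀ bc, ∃ m, D.ac huK m - m = E' bc := by
    rintro ⟨b, c⟩
    obtain ⟨x, hx, h1, h2⟩ := D.p_surj (b * d⁻¹) (c * d⁻¹)
    refine ⟨_, (key hx).trans ?_⟩
    refine D.pi_congr _ ?_ _
    rw [h1, h2, inv_mul_cancel_right₀ hd, inv_mul_cancel_right₀ hd]
  have hcomm : ∀ bc bc', D.ff (E' bc) (E' bc') = 0 := by
    intro bc bc'
    rw [D.ff_pi_iff]
    have e1 := D.V_comm (D.v_mem 0 bc.1 bc.2 0) (D.v_mem 0 bc'.1 bc'.2 0)
    calc g * v 0 bc.1 bc.2 0 * g⁻¹ * (g * v 0 bc'.1 bc'.2 0 * g⁻¹) =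
        g * (v 0 bc.1 bc.2 0 * v 0 bc'.1 bc'.2 0) * g⁻¹ := by group
      _ = g * (v 0 bc'.1 bc'.2 0 * v 0 bc.1 bc.2 0) * g⁻¹ := by rw [e1]
      _ = _ := by group
  -- `τ` preserves `N₁` and `N₂`
  have hτ₁ : ∀ m ∈ D.N₁, D.ac huK m ∈ D.N₁ := fun m => D.ac_N₁₁ huK hdA
  have hτ₂ : ∀ m ∈ D.N₂, D.ac huK m ∈ D.N₂ := fun m => D.ac_N₂₂ huK hdB
  have hne : D.ac huK ≠ 1 := by
    intro h1
    have h2 := D.mem_Q_of_ac huK h1
    have h3 := conj_of_cj' hQ h2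
    have h4 : g⁻¹ * u * g = v 0 0 0 d := by rw [hu]; group
    rw [h4, D.V_Q] at h3
    exact hd h3
  have hsup : ∀ w : D.Mo, ∃ a ∈ D.N₁, ∃ b ∈ D.N₂, w = a + b := by
    intro w
    have : w ∈ D.N₁ ⊔ D.N₂ := by rw [D.isCompl.sup_eq_top]; trivial
    obtain ⟨a, ha, b, hb, h⟩ := Submodule.mem_sup.1 this
    exact ⟨a, ha, b, hb, h.symm⟩
  have hff := D.ac_ff huK
  obtain ⟨m, hm, hm0⟩ : ∃ m ∈ D.N₁, D.ac huK m - m ≠ 0 := by
    by_contra hcon
    push Not at hcon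
    apply hne
    refine LinearEquiv.ext fun w => ?_
    obtain ⟨a, ha, b, hb, rfl⟩ := hsup w
    have h1 : D.ac huK b - b = 0 := by
      refine D.ff_nondeg _ fun n => ?_
      obtain ⟨a', ha', b', hb', rfl⟩ := hsup n
      rw [map_add, D.ff_N₂ (sub_mem (hτ₂ b hb) hb) hb', add_zero, map_sub, LinearMap.sub_apply]
      have h2 := hff b a'
      rw [sub_eq_zero.1 (hcon a' ha')] at h2
      rw [h2, sub_self]
    rw [map_add, sub_eq_zero.1 (hcon a ha), sub_eq_zero.1 h1]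
    rfl
  obtain ⟨φ, hφ, hφ0⟩ : ∃ φ ∈ D.N₂, D.ac huK φ - φ ≠ 0 := by
    by_contra hcon
    push Not at hcon
    apply hne
    refine LinearEquiv.ext fun w => ?_
    obtain ⟨a, ha, b, hb, rfl⟩ := hsup w
    have h1 : D.ac huK a - a = 0 := by
      refine D.ff_nondeg _ fun n => ?_
      obtain ⟨a', ha', b', hb', rfl⟩ := hsup n
      rw [map_add, D.ff_N₁ (sub_mem (hτ₁ a ha) ha) ha', zero_add, map_sub, LinearMap.sub_apply]
      have h2 := hff a b'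
      rw [sub_eq_zero.1 (hcon b' hb')] at h2
      rw [h2, sub_self]
    rw [map_add, sub_eq_zero.1 (hcon b hb), sub_eq_zero.1 h1]
    rfl
  -- `L = (τ - 1) M`
  let T : D.Mo →ₗ[F] D.Mo := (D.ac huK).toLinearMap - LinearMap.id
  have hT : ∀ w, T w = D.ac huK w - w := fun w => rfl
  let f₁ : F × F → LinearMap.range T := fun ac =>
    ⟨ac.1 • T m + ac.2 • T φ, add_mem (Submodule.smul_mem _ _ ⟨m, rfl⟩) (Submodule.smul_mem _ _ ⟨φ, rfl⟩)⟩
  have hinj : Function.Injective f₁ := by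
    rintro ⟨a, c⟩ ⟨a', c'⟩ h
    have h1 : a • T m + c • T φ = a' • T m + c' • T φ := congrArg Subtype.val h
    have h2 : (a - a') • T m = (c' - c) • T φ := by linear_combination (norm := module) h1
    have n1 : T m ∈ D.N₁ := sub_mem (hτ₁ m hm) hm
    have n2 : T φ ∈ D.N₂ := sub_mem (hτ₂ φ hφ) hφ
    have h3 : (a - a') • T m = 0 := (Submodule.disjoint_def.1 D.isCompl.disjoint) _ (Submodule.smul_mem _ _ n1)
      (by rw [h2]; exact Submodule.smul_mem _ _ n2)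
    have h4 : (c' - c) • T φ = 0 := by rw [← h2, h3]
    have h5 : a - a' = 0 := (smul_eq_zero.1 h3).resolve_right hm0
    have h6 : c' - c = 0 := (smul_eq_zero.1 h4).resolve_right hφ0
    rw [sub_eq_zero.1 h5, sub_eq_zero.1 h6]
  let f₂ : F × F → LinearMap.range T := fun bc => ⟨E' bc, by
    obtain ⟨w, hw⟩ := hE2 bc
    exact ⟨w, hw⟩⟩
  have hsurj : Function.Surjective f₂ := by
    rintro ⟨_, w, rfl⟩
    obtain ⟨bc, h1⟩ := hE1 w
    exact ⟨bc, Subtype.ext h1.symm⟩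
  have hbij : Function.Bijective f₁ := by
    have : Finite (LinearMap.range T) := Finite.of_surjective f₂ hsurj
    exact hinj.bijective_of_nat_card_le (Nat.card_le_card_of_surjective f₂ hsurj)
  have hTm : ∃ bc, T m = E' bc := hE1 m
  have hTφ : ∃ bc, T φ = E' bc := hE1 φ
  obtain ⟨k, hk, hkA, hkB, a, c, h1, h2⟩ := D.orbit (sub_mem (hτ₁ m hm) hm) (sub_mem (hτ₂ φ hφ) hφ) hm0 hφ0 (by
    obtain ⟨bc, h1⟩ := hTm
    obtain ⟨bc', h2⟩ := hTφ
    rw [hT] at h1 h2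
    rw [h1, h2]
    exact hcomm _ _)
  -- `k g` normalises `V`
  have hkR : cj (k * g) (R i0 j0) = R i0 j0 := by rw [cj_mul, hR, D.cj_R_of_K hk]
  have hkV : cj (k * g) V = V := by
    refine D.cjV hkR fun x hx => ?_
    obtain ⟨α, b', c', rfl⟩ := D.mem_E.1 hx
    have hgx := conj_of_cj hQ hx.2
    have e1 : k * g * v α b' c' 0 * (k * g)⁻¹ = k * (g * v α b' c' 0 * g⁻¹) * k⁻¹ := by group
    rw [e1, ← D.mem_e_E (D.K_norm hk hgx), ← D.ac_pi hk hgx]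
    have e2 : D.pi hgx = E' (b', c') := by
      rw [D.pi_eq_iff]
      have e3 : v α b' c' 0 = v α 0 0 0 * v 0 b' c' 0 := by rw [D.v_mul]; simp
      rw [e3]
      have e4 : (g * (v α 0 0 0 * v 0 b' c' 0) * g⁻¹)⁻¹ * (g * v 0 b' c' 0 * g⁻¹) =
          g * ((v 0 b' c' 0)⁻¹ * (v α 0 0 0)⁻¹ * v 0 b' c' 0) * g⁻¹ := by group
      change (g * (v α 0 0 0 * v 0 b' c' 0) * g⁻¹)⁻¹ * (g * v 0 b' c' 0 * g⁻¹) ∈ R i0 j0
      rw [e4]
      apply conj_of_cj hR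
      have e5 : (v α 0 0 0)⁻¹ ∈ R i0 j0 := inv_mem ((D.R00 _).2 ⟨_, rfl⟩)
      have e6 := D.grid.RQ i0 j0 _ e5 _ (D.v_Q 0 b' c')
      rw [mul_assoc, e6, inv_mul_cancel_left]
      exact e5
    obtain ⟨⟨x, y⟩, hxy⟩ := hbij.2 (f₂ (b', c'))
    have e3 : x • T m + y • T φ = E' (b', c') := congrArg Subtype.val hxy
    refine ⟨x * a, y * c, ?_⟩
    rw [e2, ← e3, map_add, map_smul, map_smul, hT, hT, h1, h2, smul_smul, smul_smul]
  have e : ∀ H : Subgroup G, cj (k * g) H = cj k (cj g H) := fun H => cj_mul k g H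
  rcases D.norm (k * g) hkV hkR with ⟨h3, h4⟩ | ⟨h3, h4⟩
  · left
    constructor
    · apply cj_inj (c := k)
      rw [← e, h3, hkA]
    · apply cj_inj (c := k)
      rw [← e, h4, hkB]
  · right
    constructor
    · apply cj_inj (c := k)
      rw [← e, h3, hkB]
    · apply cj_inj (c := k)
      rw [← e, h4, hkA]

/-- **(I2), (I3) of bb #15588.** -/
theorem pout : POut V (R i0 j0) (rowG Q i0) (colG Q j0) where
  perm := fun g => D.perm
  tran := fun x hx hx0 y hy hy0 h => D.tran hx hx0 hy hy0 h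
  tranA := fun x hx hx0 => by
    obtain ⟨φ, hφ, hφ0, h⟩ := D.partner₁ (D.pi (D.rowG_le hx))
    obtain ⟨y, hy, rfl⟩ := D.pi_surj φ
    rw [D.mem_N₂] at hφ
    obtain ⟨g, h1, h2, h3, h4, -⟩ := D.tran hx hx0 hφ (fun h => hφ0 ((D.pi_eq_zero _).2 h))
      ((D.ff_pi_iff _ _).1 h)
    exact ⟨g, h1, h2, h3, h4⟩
  tranB := fun y hy hy0 => by
    obtain ⟨φ, hφ, hφ0, h⟩ := D.partner₂ (D.pi (D.colG_le hy))
    obtain ⟨x, hx, rfl⟩ := D.pi_surj φ
    rw [D.mem_N₁] at hφ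
    obtain ⟨g, h1, h2, h3, -, h4⟩ := D.tran hφ (fun h => hφ0 ((D.pi_eq_zero _).2 h)) hy hy0
      ((D.ff_pi_iff _ _).1 h).symm
    exact ⟨g, h1, h2, h3, h4⟩

end Gin

end Cfsg.Agent.Omega.NO1.Gamma

end

section


/-!
# NO-1' (gamma), `q ≥ 4`: the closing argument (text bb OMEGA #15588 (I5), helper983)

`A₁`, `A₂` subgroups of `G` exchanged by some `s`, `R = A₁ ⊓ A₂ ≠ 1`.
`Adj A₁ A₂ X Y`: the pair `(X, Y)` is conjugate to `(A₁, A₂)`; `Eqv A₁ A₂ X Y`: `X`, `Y` have a common neighbour.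

* `Pre A₁ A₂` : `[A₁, A₂] ≤ R`, `C_{A₁}(A₂) ≤ A₂`, `R` is TI, `N(R)` permutes `{A₁, A₂}`;
* `Bip A₁ A₂` : moreover `G = ⟨N(A₁), N(A₂)⟩`, `quad` (two neighbours `X` of `A₁`, `W` of `A₂` whose points `X ⊓ A₁`, `A₂ ⊓ W` commute are adjacent), `cnt`
  (for neighbours `X` of `A₁`, `Z` of `A₂`, `Y` of `Z` there is a neighbour `W` of `A₂` whose point commutes with
  `X ⊓ A₁` and `Z ⊓ Y`);
* `Bip.false` : impossible;
* `Pre.cnt_of_card` : `cnt` from `|R|² < |A₂|` and `A₂^# ⊆` points;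
* `Pre.quad_of_trans` : `quad` from the transitivity of `N(A₁) ∩ N(A₂)` on the commuting pairs of points.
-/

set_option autoImplicit false

namespace Cfsg.Agent.Omega.NO1.Gamma.BipA

open Subgroup
open Cfsg.Agent.Omega.NoFF.Basic (conj_conj mem_conj conj_le_iff conj_le_centralizer comm_symm comm_mono)
open scoped Pointwise

variable {G : Type*} [Group G]

/-! ### Conjugation -/

theorem conj_inv_conj (g : G) (A : Subgroup G) : MulAut.conj g⁻¹ • (MulAut.conj g • A) = A := by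
  rw [conj_conj, inv_mul_cancel, map_one, one_smul]

theorem conj_conj_inv (g : G) (A : Subgroup G) : MulAut.conj g • (MulAut.conj g⁻¹ • A) = A := by
  rw [conj_conj, mul_inv_cancel, map_one, one_smul]

theorem conj_one (A : Subgroup G) : MulAut.conj (1 : G) • A = A := by
  rw [map_one, one_smul]

theorem conj_inj {g : G} {A B : Subgroup G} (h : MulAut.conj g • A = MulAut.conj g • B) : A = B := by
  have h1 := congrArg (fun C => MulAut.conj g⁻¹ • C) h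
  simpa only [conj_inv_conj] using h1

theorem conj_eq_iff {g : G} {A B : Subgroup G} : MulAut.conj g • A = B ↔ A = MulAut.conj g⁻¹ • B := by
  constructor
  · rintro rfl
    rw [conj_inv_conj]
  · rintro rfl
    rw [conj_conj_inv]

theorem conj_ne_bot {g : G} {A : Subgroup G} (h : A ≠ ⊥) : MulAut.conj g • A ≠ ⊥ := by
  intro h1
  apply h
  apply conj_inj (g := g)
  rw [h1, smul_bot]

/-! ### The relation -/

/-- the pair `(X, Y)` is conjugate to `(A₁, A₂)` -/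
def Adj (A₁ A₂ X Y : Subgroup G) : Prop := ∃ g : G, X = MulAut.conj g • A₁ ∧ Y = MulAut.conj g • A₂

/-- `X`, `Y` have a common neighbour. -/
def Eqv (A₁ A₂ X Y : Subgroup G) : Prop := ∃ Z : Subgroup G, Adj A₁ A₂ X Z ∧ Adj A₁ A₂ Z Y

variable {A₁ A₂ : Subgroup G}

theorem adj_base : Adj A₁ A₂ A₁ A₂ := ⟨1, by rw [conj_one], by rw [conj_one]⟩

theorem Adj.conj {X Y : Subgroup G} (h : Adj A₁ A₂ X Y) (g : G) :
    Adj A₁ A₂ (MulAut.conj g • X) (MulAut.conj g • Y) := by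
  obtain ⟨k, rfl, rfl⟩ := h
  exact ⟨g * k, by rw [conj_conj], by rw [conj_conj]⟩

theorem Adj.of_conj {X Y : Subgroup G} {g : G} (h : Adj A₁ A₂ (MulAut.conj g • X) (MulAut.conj g • Y)) :
    Adj A₁ A₂ X Y := by
  have h1 := h.conj g⁻¹
  rwa [conj_inv_conj, conj_inv_conj] at h1

theorem Eqv.conj {X Y : Subgroup G} (h : Eqv A₁ A₂ X Y) (g : G) :
    Eqv A₁ A₂ (MulAut.conj g • X) (MulAut.conj g • Y) := by
  obtain ⟨Z, h1, h2⟩ := h
  exact ⟨_, h1.conj g, h2.conj g⟩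

theorem Adj.symm (hs : ∃ s : G, MulAut.conj s • A₁ = A₂ ∧ MulAut.conj s • A₂ = A₁) {X Y : Subgroup G}
    (h : Adj A₁ A₂ X Y) : Adj A₁ A₂ Y X := by
  obtain ⟨s, h1, h2⟩ := hs
  obtain ⟨k, rfl, rfl⟩ := h
  exact ⟨k * s, by rw [← conj_conj, h1], by rw [← conj_conj, h2]⟩

/-! ### The hypotheses -/

/-- The pair `(A₁, A₂)`: the local hypotheses. -/
structure Pre (A₁ A₂ : Subgroup G) : Prop where
  ne : A₁ ≠ A₂
  ne_bot : A₁ ⊓ A₂ ≠ ⊥
  swap : ∃ s : G, MulAut.conj s • A₁ = A₂ ∧ MulAut.conj s • A₂ = A₁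
  comm : ∀ a ∈ A₁, ∀ b ∈ A₂, a * b * a⁻¹ * b⁻¹ ∈ A₁ ⊓ A₂
  cen : A₁ ⊓ centralizer (A₂ : Set G) ≤ A₂
  ti : ∀ g : G, (MulAut.conj g • (A₁ ⊓ A₂)) ⊓ (A₁ ⊓ A₂) ≠ ⊥ → MulAut.conj g • (A₁ ⊓ A₂) = A₁ ⊓ A₂
  perm : ∀ g : G, MulAut.conj g • (A₁ ⊓ A₂) = A₁ ⊓ A₂ → MulAut.conj g • A₂ = A₂ → MulAut.conj g • A₁ = A₁

/-- The hypotheses of the closing argument. -/
structure Bip (A₁ A₂ : Subgroup G) : Prop extends Pre A₁ A₂ where
  quad : ∀ X W : Subgroup G, Adj A₁ A₂ X A₁ → Adj A₁ A₂ A₂ W →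
    X ⊓ A₁ ≤ centralizer ((A₂ ⊓ W : Subgroup G) : Set G) → Adj A₁ A₂ X W
  cnt : ∀ X Y Z : Subgroup G, Adj A₁ A₂ X A₁ → Adj A₁ A₂ A₂ Z → Adj A₁ A₂ Z Y →
    ∃ W : Subgroup G, Adj A₁ A₂ A₂ W ∧ X ⊓ A₁ ≤ centralizer ((A₂ ⊓ W : Subgroup G) : Set G) ∧
      A₂ ⊓ W ≤ centralizer ((Z ⊓ Y : Subgroup G) : Set G)
  gen : normalizer (A₁ : Set G) ⊔ normalizer (A₂ : Set G) = ⊤

namespace Pre

variable (h : Pre A₁ A₂)
include h

theorem symm {X Y : Subgroup G} (hXY : Adj A₁ A₂ X Y) : Adj A₁ A₂ Y X := hXY.symm h.swap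

theorem eqv_symm {X Y : Subgroup G} (hXY : Eqv A₁ A₂ X Y) : Eqv A₁ A₂ Y X := by
  obtain ⟨Z, h1, h2⟩ := hXY
  exact ⟨Z, h.symm h2, h.symm h1⟩

/-- `[X, Z] ≤ X ⊓ Z` -/
theorem comm' {X Z : Subgroup G} (hXZ : Adj A₁ A₂ X Z) {x z : G} (hx : x ∈ X) (hz : z ∈ Z) :
    x * z * x⁻¹ * z⁻¹ ∈ X ⊓ Z := by
  obtain ⟨g, rfl, rfl⟩ := hXZ
  rw [mem_conj] at hx hz
  have h1 := h.comm _ hx _ hz
  rw [← Subgroup.smul_inf, mem_conj]
  have e : g⁻¹ * (x * z * x⁻¹ * z⁻¹) * g =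
      g⁻¹ * x * g * (g⁻¹ * z * g) * (g⁻¹ * x * g)⁻¹ * (g⁻¹ * z * g)⁻¹ := by group
  rwa [e]

/-- `C_X(Z) ≤ Z` -/
theorem cen' {X Z : Subgroup G} (hXZ : Adj A₁ A₂ X Z) : X ⊓ centralizer (Z : Set G) ≤ Z := by
  obtain ⟨g, rfl, rfl⟩ := hXZ
  rintro x ⟨hx, hxc⟩
  have hx' : x ∈ MulAut.conj g • A₁ := hx
  rw [mem_conj] at hx' ⊢
  refine h.cen ⟨hx', mem_centralizer_iff.2 ?_⟩
  intro a ha
  have h1 : g * a * g⁻¹ ∈ MulAut.conj g • A₂ := by
    rw [mem_conj]; simpa [mul_assoc] using ha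
  have h2 := mem_centralizer_iff.1 hxc _ h1
  have h3 := congrArg (fun t => g⁻¹ * t * g) h2
  simpa [mul_assoc] using h3

/-- Two points are equal or meet trivially. -/
theorem ti' {X Z X' Z' : Subgroup G} (hXZ : Adj A₁ A₂ X Z) (hXZ' : Adj A₁ A₂ X' Z')
    (hne : (X ⊓ Z) ⊓ (X' ⊓ Z') ≠ ⊥) : X ⊓ Z = X' ⊓ Z' := by
  obtain ⟨g, rfl, rfl⟩ := hXZ
  obtain ⟨k, rfl, rfl⟩ := hXZ'
  rw [← Subgroup.smul_inf, ← Subgroup.smul_inf] at hne ⊢
  have e : MulAut.conj g • (A₁ ⊓ A₂) = MulAut.conj k • (MulAut.conj (k⁻¹ * g) • (A₁ ⊓ A₂)) := by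
    rw [conj_conj, mul_inv_cancel_left]
  rw [e] at hne ⊢
  rw [← Subgroup.smul_inf] at hne
  rw [h.ti _ fun h1 => hne (by rw [h1, smul_bot])]

/-- The point determines the second neighbour. -/
theorem uniq {X Y Z : Subgroup G} (hX : Adj A₁ A₂ X Z) (hY : Adj A₁ A₂ Y Z) (hp : X ⊓ Z = Y ⊓ Z) :
    X = Y := by
  obtain ⟨g, rfl, rfl⟩ := hX
  obtain ⟨k, rfl, hk⟩ := hY
  have h1 : MulAut.conj (g⁻¹ * k) • A₂ = A₂ := by
    rw [← conj_conj, ← hk, conj_inv_conj]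
  have h2 : MulAut.conj (g⁻¹ * k) • (A₁ ⊓ A₂) = A₁ ⊓ A₂ := by
    rw [← conj_conj]
    have h3 : MulAut.conj k • (A₁ ⊓ A₂) = MulAut.conj g • (A₁ ⊓ A₂) := by
      rw [Subgroup.smul_inf, Subgroup.smul_inf, ← hk, ← hp]
    rw [h3, conj_inv_conj]
  have h3 := h.perm _ h2 h1
  rw [← conj_conj, conj_eq_iff, inv_inv] at h3
  exact h3.symm

/-- (i) -/
theorem inf_eq_bot {X Y Z : Subgroup G} (hX : Adj A₁ A₂ X Z) (hY : Adj A₁ A₂ Y Z) (hne : X ≠ Y) :
    X ⊓ Y = ⊥ := by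
  have h1 : (X ⊓ Z) ⊓ (Y ⊓ Z) = ⊥ := by
    by_contra h2
    exact hne (h.uniq hX hY (h.ti' hX hY h2))
  rw [eq_bot_iff]
  rintro y ⟨hyX, hyY⟩
  have h2 : y ∈ Z := by
    refine h.cen' hX ⟨hyX, mem_centralizer_iff.2 ?_⟩
    intro z hz
    have h3 := h.comm' hX hyX hz
    have h4 := h.comm' hY hyY hz
    have h5 : y * z * y⁻¹ * z⁻¹ ∈ (X ⊓ Z) ⊓ (Y ⊓ Z) := ⟨h3, h4⟩
    rw [h1, mem_bot] at h5
    have h6 : y * z = z * y := by
      have := congrArg (fun t => t * (z * y)) h5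
      simpa [mul_assoc] using this
    exact h6.symm
  rw [← h1]
  exact ⟨⟨hyX, h2⟩, hyY, h2⟩

/-! ### `cnt` by counting -/

theorem isMulComm (hab : A₁ ≤ centralizer (A₁ : Set G)) {X Z : Subgroup G} (hXZ : Adj A₁ A₂ X Z) {x y : G}
    (hx : x ∈ X) (hy : y ∈ X) : x * y = y * x := by
  obtain ⟨g, rfl, -⟩ := hXZ
  exact (mem_centralizer_iff.1 (conj_le_centralizer hab hy) x hx)

theorem isMulComm' (hab : A₁ ≤ centralizer (A₁ : Set G)) {X Z : Subgroup G} (hXZ : Adj A₁ A₂ X Z) {x y : G}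
    (hx : x ∈ Z) (hy : y ∈ Z) : x * y = y * x := h.isMulComm hab (h.symm hXZ) hx hy

/-- the conjugate of a point by an element which commutes with a nontrivial element of it. -/
theorem conj_mem_point {X Z : Subgroup G} (hXZ : Adj A₁ A₂ X Z) {g r r' : G} (hr : r ∈ X ⊓ Z) (hr1 : r ≠ 1)
    (hg : g * r = r * g) (hr' : r' ∈ X ⊓ Z) : g * r' * g⁻¹ ∈ X ⊓ Z := by
  have h1 : (MulAut.conj g • X) ⊓ (MulAut.conj g • Z) = X ⊓ Z := by
    refine h.ti' (hXZ.conj g) hXZ fun h2 => hr1 ?_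
    have h3 : r ∈ (MulAut.conj g • X ⊓ MulAut.conj g • Z) ⊓ (X ⊓ Z) := by
      refine ⟨?_, hr⟩
      rw [← Subgroup.smul_inf]
      change r ∈ MulAut.conj g • (X ⊓ Z)
      rw [mem_conj]
      have e : g⁻¹ * r * g = r := by
        rw [mul_assoc, ← hg, inv_mul_cancel_left]
      rwa [e]
    rw [h2, mem_bot] at h3
    exact h3
  rw [← h1, ← Subgroup.smul_inf, mem_conj]
  simpa [mul_assoc] using hr'

/-- An element of `V₁` which commutes with one nontrivial element of the point `V₂ ⊓ W` commutes with the point. -/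
theorem comm_point (hab : A₁ ≤ centralizer (A₁ : Set G)) {V₁ V₂ W : Subgroup G} (h1 : Adj A₁ A₂ V₁ V₂)
    (h2 : Adj A₁ A₂ V₂ W) {p r r' : G} (hp : p ∈ V₁) (hr : r ∈ V₂ ⊓ W) (hr1 : r ≠ 1) (hpr : p * r = r * p)
    (hr' : r' ∈ V₂ ⊓ W) : p * r' = r' * p := by
  by_cases he : V₁ ⊓ V₂ = V₂ ⊓ W
  · have h3 : r' ∈ V₁ ⊓ V₂ := by rw [he]; exact hr'
    exact h.isMulComm hab h1 hp h3.1
  · have h3 : (V₁ ⊓ V₂) ⊓ (V₂ ⊓ W) = ⊥ := by
      by_contra h4
      exact he (h.ti' h1 h2 h4)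
    have h4 := h.comm' h1 hp hr'.1
    have h5 : p * r' * p⁻¹ * r'⁻¹ ∈ V₂ ⊓ W :=
      mul_mem (h.conj_mem_point h2 hr hr1 hpr hr') (inv_mem hr')
    have h6 : p * r' * p⁻¹ * r'⁻¹ ∈ (V₁ ⊓ V₂) ⊓ (V₂ ⊓ W) := ⟨h4, h5⟩
    rw [h3, mem_bot] at h6
    have := congrArg (fun t => t * (r' * p)) h6
    simpa [mul_assoc] using this

/-- `|V₂ : C_{V₂}(P)| ≤ |R|` for a point `P = X ⊓ V₁` of `V₁`. -/
theorem relIndex_le [Finite G] (hab : A₁ ≤ centralizer (A₁ : Set G)) {X V₁ V₂ : Subgroup G}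
    (h1 : Adj A₁ A₂ V₁ V₂) (h2 : Adj A₁ A₂ X V₁) :
    (centralizer ((X ⊓ V₁ : Subgroup G) : Set G)).relIndex V₂ ≤ Nat.card (V₁ ⊓ V₂ : Subgroup G) := by
  have hpos : 0 < Nat.card (V₁ ⊓ V₂ : Subgroup G) := Nat.card_pos
  have hne : X ⊓ V₁ ≠ ⊥ := by
    obtain ⟨g, rfl, rfl⟩ := h2
    rw [← Subgroup.smul_inf]
    exact conj_ne_bot h.ne_bot
  obtain ⟨p, hp, hp1⟩ : ∃ p : G, p ∈ X ⊓ V₁ ∧ p ≠ 1 := by
    obtain ⟨a, ha⟩ := (Subgroup.ne_bot_iff_exists_ne_one).1 hne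
    exact ⟨a, a.2, fun h3 => ha (Subtype.ext h3)⟩
  -- the kernel centralises the point
  have hker : ∀ a ∈ V₂, a * (p : G) = p * a → a ∈ centralizer ((X ⊓ V₁ : Subgroup G) : Set G) := by
    intro a ha hap
    refine mem_centralizer_iff.2 fun p' hp' => ?_
    have h3 : a * p' = p' * a := h.comm_point hab (h.symm h1) (h.symm h2) ha
      (by rw [inf_comm]; exact hp) hp1 hap (by rw [inf_comm]; exact hp')
    exact h3.symm
  let f : V₂ →* (V₁ ⊓ V₂ : Subgroup G) :=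
    MonoidHom.mk' (fun a => ⟨p * a * (p : G)⁻¹ * (a : G)⁻¹, h.comm' h1 hp.2 a.2⟩) (by
      intro a b
      apply Subtype.ext
      change (p : G) * (a * b) * (p : G)⁻¹ * ((a : G) * b)⁻¹ =
        p * a * (p : G)⁻¹ * (a : G)⁻¹ * (p * b * (p : G)⁻¹ * (b : G)⁻¹)
      have h3 : (p : G) * b * (p : G)⁻¹ * (b : G)⁻¹ ∈ V₂ := (h.comm' h1 hp.2 b.2).2
      have h4 := h.isMulComm' hab h1 a.2 h3
      calc (p : G) * (a * b) * (p : G)⁻¹ * ((a : G) * b)⁻¹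
          = p * a * (p : G)⁻¹ * ((p * b * (p : G)⁻¹ * (b : G)⁻¹) * (a : G)⁻¹) := by group
        _ = p * a * (p : G)⁻¹ * ((a : G)⁻¹ * (a * (p * b * (p : G)⁻¹ * (b : G)⁻¹)) * (a : G)⁻¹) := by group
        _ = p * a * (p : G)⁻¹ * ((a : G)⁻¹ * ((p * b * (p : G)⁻¹ * (b : G)⁻¹) * a) * (a : G)⁻¹) := by rw [h4]
        _ = _ := by group)
  have h3 : f.ker ≤ (centralizer ((X ⊓ V₁ : Subgroup G) : Set G)).subgroupOf V₂ := by
    intro a ha
    rw [MonoidHom.mem_ker] at ha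
    rw [mem_subgroupOf]
    have h4 : (p : G) * a * (p : G)⁻¹ * (a : G)⁻¹ = 1 := congrArg Subtype.val ha
    refine hker a a.2 ?_
    have := congrArg (fun t => t * ((a : G) * p)) h4
    simpa [mul_assoc] using this.symm
  calc (centralizer ((X ⊓ V₁ : Subgroup G) : Set G)).relIndex V₂ ≤ f.ker.index :=
        Nat.le_of_dvd (Nat.pos_of_ne_zero Subgroup.index_ne_zero_of_finite) (Subgroup.index_dvd_of_le h3)
    _ = Nat.card f.range := Subgroup.index_ker f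
    _ ≤ Nat.card (V₁ ⊓ V₂ : Subgroup G) := Subgroup.card_le_card_group _

/-- `cnt` from `|R|² < |A₂|` if the nontrivial elements of `A₂` are in points. -/
theorem cnt_of_card [Finite G] (hab : A₁ ≤ centralizer (A₁ : Set G))
    (hc : Nat.card (A₁ ⊓ A₂ : Subgroup G) ^ 2 < Nat.card A₂)
    (cover : ∀ r ∈ A₂, r ≠ 1 → ∃ W : Subgroup G, Adj A₁ A₂ A₂ W ∧ r ∈ W) (X Y Z : Subgroup G)
    (hX : Adj A₁ A₂ X A₁) (hZ : Adj A₁ A₂ A₂ Z) (hY : Adj A₁ A₂ Z Y) :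
    ∃ W : Subgroup G, Adj A₁ A₂ A₂ W ∧ X ⊓ A₁ ≤ centralizer ((A₂ ⊓ W : Subgroup G) : Set G) ∧
      A₂ ⊓ W ≤ centralizer ((Z ⊓ Y : Subgroup G) : Set G) := by
  have h1 := h.relIndex_le hab adj_base hX
  have h2 := h.relIndex_le hab (h.symm hZ) (h.symm hY)
  have h3 : Nat.card (Z ⊓ A₂ : Subgroup G) = Nat.card (A₁ ⊓ A₂ : Subgroup G) := by
    obtain ⟨g, e1, e2⟩ := h.symm hZ
    rw [e1]
    conv_lhs => rw [e2, ← Subgroup.smul_inf]
    exact Nat.card_congr (Subgroup.equivSMul (MulAut.conj g) _).toEquiv.symm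
  rw [h3, inf_comm] at h2
  have h4 := Subgroup.relIndex_inf_le (H := centralizer ((X ⊓ A₁ : Subgroup G) : Set G))
    (K := centralizer ((Z ⊓ Y : Subgroup G) : Set G)) (L := A₂)
  have h5 : (centralizer ((X ⊓ A₁ : Subgroup G) : Set G) ⊓
      centralizer ((Z ⊓ Y : Subgroup G) : Set G)).relIndex A₂ < Nat.card A₂ := by
    refine lt_of_le_of_lt (h4.trans (Nat.mul_le_mul h1 h2)) ?_
    rwa [← pow_two]
  have h6 : ∃ r ∈ A₂, r ≠ 1 ∧ r ∈ centralizer ((X ⊓ A₁ : Subgroup G) : Set G) ∧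
      r ∈ centralizer ((Z ⊓ Y : Subgroup G) : Set G) := by
    by_contra hcon
    push Not at hcon
    have h7 : (centralizer ((X ⊓ A₁ : Subgroup G) : Set G) ⊓
        centralizer ((Z ⊓ Y : Subgroup G) : Set G)).subgroupOf A₂ = ⊥ := by
      rw [eq_bot_iff]
      intro r hr
      rw [mem_subgroupOf] at hr
      rw [mem_bot]
      by_contra hr1
      exact hcon r r.2 (fun h8 => hr1 (Subtype.ext h8)) hr.1 hr.2
    rw [Subgroup.relIndex, h7, Subgroup.index_bot] at h5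
    exact lt_irrefl _ h5
  obtain ⟨r, hr, hr1, hr2, hr3⟩ := h6
  obtain ⟨W, hW, hrW⟩ := cover r hr hr1
  refine ⟨W, hW, ?_, ?_⟩
  · intro p hp
    refine mem_centralizer_iff.2 fun r' hr' => ?_
    exact (h.comm_point hab adj_base hW hp.2 ⟨hr, hrW⟩ hr1 (mem_centralizer_iff.1 hr2 p hp) hr').symm
  · refine comm_symm ?_
    intro p hp
    refine mem_centralizer_iff.2 fun r' hr' => ?_
    exact (h.comm_point hab (h.symm hZ) hW hp.1 ⟨hr, hrW⟩ hr1 (mem_centralizer_iff.1 hr3 p hp) hr').symm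

/-- `quad` from the transitivity of `N(A₁) ∩ N(A₂)` on the pairs of commuting points and one example. -/
theorem quad_of_trans {X₀ W₀ : Subgroup G} (hX₀ : Adj A₁ A₂ X₀ A₁) (hW₀ : Adj A₁ A₂ A₂ W₀)
    (h₀ : Adj A₁ A₂ X₀ W₀)
    (tr : ∀ X W : Subgroup G, Adj A₁ A₂ X A₁ → Adj A₁ A₂ A₂ W →
      X ⊓ A₁ ≤ centralizer ((A₂ ⊓ W : Subgroup G) : Set G) → X ⊓ A₁ ≠ A₁ ⊓ A₂ → A₂ ⊓ W ≠ A₁ ⊓ A₂ →
      ∃ g : G, MulAut.conj g • A₁ = A₁ ∧ MulAut.conj g • A₂ = A₂ ∧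
        MulAut.conj g • (X ⊓ A₁) = X₀ ⊓ A₁ ∧ MulAut.conj g • (A₂ ⊓ W) = A₂ ⊓ W₀)
    (X W : Subgroup G) (hX : Adj A₁ A₂ X A₁) (hW : Adj A₁ A₂ A₂ W)
    (hc : X ⊓ A₁ ≤ centralizer ((A₂ ⊓ W : Subgroup G) : Set G)) : Adj A₁ A₂ X W := by
  by_cases h1 : X ⊓ A₁ = A₁ ⊓ A₂
  · have h2 : X = A₂ := h.uniq hX (h.symm adj_base) (by rw [h1, inf_comm])
    rw [h2]
    exact hW
  by_cases h2 : A₂ ⊓ W = A₁ ⊓ A₂
  · have h3 : W = A₁ := h.uniq (h.symm hW) adj_base (by rw [inf_comm, h2])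
    rw [h3]
    exact hX
  obtain ⟨g, e1, e2, e3, e4⟩ := tr X W hX hW hc h1 h2
  have h3 : MulAut.conj g • X = X₀ := by
    refine h.uniq (Z := A₁) ?_ hX₀ ?_
    · have := hX.conj g
      rwa [e1] at this
    · rw [← e3, Subgroup.smul_inf, e1]
  have h4 : MulAut.conj g • W = W₀ := by
    refine h.uniq (Z := A₂) ?_ (h.symm hW₀) ?_
    · have := (h.symm hW).conj g
      rwa [e2] at this
    · rw [inf_comm W₀, ← e4, Subgroup.smul_inf, e2, inf_comm]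
  apply Adj.of_conj (g := g)
  rw [h3, h4]
  exact h₀

end Pre

namespace Bip

variable (h : Bip A₁ A₂)
include h

/-- `quad` for conjugates. -/
theorem quad' {X V₁ V₂ W : Subgroup G} (h1 : Adj A₁ A₂ X V₁) (h2 : Adj A₁ A₂ V₁ V₂) (h3 : Adj A₁ A₂ V₂ W)
    (h4 : X ⊓ V₁ ≤ centralizer ((V₂ ⊓ W : Subgroup G) : Set G)) : Adj A₁ A₂ X W := by
  obtain ⟨g, rfl, rfl⟩ := h2
  obtain ⟨X', rfl⟩ : ∃ X' : Subgroup G, X = MulAut.conj g • X' := ⟨_, (conj_conj_inv g X).symm⟩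
  obtain ⟨W', rfl⟩ : ∃ W' : Subgroup G, W = MulAut.conj g • W' := ⟨_, (conj_conj_inv g W).symm⟩
  refine (h.quad X' W' h1.of_conj h3.of_conj ?_).conj g
  rw [← Subgroup.smul_inf, ← Subgroup.smul_inf] at h4
  have h5 := conj_le_centralizer (g := g⁻¹) h4
  rwa [conj_inv_conj, conj_inv_conj] at h5

/-- (ii) -/
theorem trans {X V Y : Subgroup G} (h1 : Eqv A₁ A₂ X V) (h2 : Eqv A₁ A₂ V Y) : Eqv A₁ A₂ X Y := by
  obtain ⟨V₁, h3, g, rfl, rfl⟩ := h1
  obtain ⟨Z, h4, h5⟩ := h2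
  obtain ⟨X', rfl⟩ : ∃ X' : Subgroup G, X = MulAut.conj g • X' := ⟨_, (conj_conj_inv g X).symm⟩
  obtain ⟨Y', rfl⟩ : ∃ Y' : Subgroup G, Y = MulAut.conj g • Y' := ⟨_, (conj_conj_inv g Y).symm⟩
  obtain ⟨Z', rfl⟩ : ∃ Z' : Subgroup G, Z = MulAut.conj g • Z' := ⟨_, (conj_conj_inv g Z).symm⟩
  have h3 := h3.of_conj
  have h4 := h4.of_conj
  have h5 := h5.of_conj
  obtain ⟨W, h6, h7, h8⟩ := h.cnt X' Y' Z' h3 h4 h5
  have h9 : Adj A₁ A₂ X' W := h.quad X' W h3 h6 h7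
  have h10 : Adj A₁ A₂ W Y' := by
    refine h.quad' (h.toPre.symm h6) h4 h5 ?_
    rw [inf_comm]
    exact h8
  exact Eqv.conj ⟨W, h9, h10⟩ g

/-- **(I5)** -/
theorem false : False := by
  obtain ⟨s, hs1, hs2⟩ := h.swap
  let T : Subgroup G :=
    { carrier := {g | Eqv A₁ A₂ A₂ (MulAut.conj g • A₂)}
      one_mem' := by
        change Eqv A₁ A₂ A₂ (MulAut.conj (1 : G) • A₂)
        rw [conj_one]
        exact ⟨A₁, h.toPre.symm adj_base, adj_base⟩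
      mul_mem' := by
        intro a b ha hb
        change Eqv A₁ A₂ A₂ (MulAut.conj (a * b) • A₂)
        rw [← conj_conj]
        exact h.trans ha (Eqv.conj hb a)
      inv_mem' := by
        intro a ha
        change Eqv A₁ A₂ A₂ (MulAut.conj a⁻¹ • A₂)
        have h1 := Eqv.conj (show Eqv A₁ A₂ A₂ (MulAut.conj a • A₂) from ha) a⁻¹
        rw [conj_inv_conj] at h1
        exact h.toPre.eqv_symm h1 }
  have hT : T = ⊤ := by
    rw [eq_top_iff, ← h.gen]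
    refine sup_le ?_ ?_
    · intro g hg
      have h1 : MulAut.conj g • A₁ = A₁ := conj_eq hg
      have h2 : Adj A₁ A₂ A₁ (MulAut.conj g • A₂) := by
        have h3 := (adj_base (A₁ := A₁) (A₂ := A₂)).conj g
        rwa [h1] at h3
      exact ⟨A₁, h.toPre.symm adj_base, h2⟩
    · intro g hg
      have h1 : MulAut.conj g • A₂ = A₂ := conj_eq hg
      change Eqv A₁ A₂ A₂ (MulAut.conj g • A₂)
      rw [h1]
      exact ⟨A₁, h.toPre.symm adj_base, adj_base⟩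
  have h1 : s ∈ T := by rw [hT]; exact mem_top s
  have h2 : Eqv A₁ A₂ A₂ A₁ := by
    have h3 : Eqv A₁ A₂ A₂ (MulAut.conj s • A₂) := h1
    rwa [hs2] at h3
  obtain ⟨Z, h3, h4⟩ := h2
  apply h.ne_bot
  rw [inf_comm]
  exact h.toPre.inf_eq_bot h3 (h.toPre.symm h4) h.ne.symm
where
  conj_eq {B : Subgroup G} {g : G} (hg : g ∈ normalizer (B : Set G)) : MulAut.conj g • B = B := by
    ext x
    rw [mem_conj]
    have := (mem_normalizer_iff.1 ((normalizer (B : Set G)).inv_mem hg)) x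
    rw [inv_inv] at this
    exact this.symm

end Bip

end Cfsg.Agent.Omega.NO1.Gamma.BipA

namespace Cfsg.Agent.Omega.NO1.Gamma

open Subgroup
open scoped Pointwise
open Cfsg.Agent.Omega.NO1.Beta.Meet (cj cj_inj mem_cj)
open BipA (Adj adj_base conj_conj_inv conj_inv_conj)

variable {G : Type*} [Group G] {R A B : Subgroup G}

namespace Bip

theorem ne' [Finite G] (h : Bip R A B) : A ≠ B := by
  rintro rfl
  have h1 := h.inf
  have h2 := h.big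
  rw [inf_idem] at h1
  rw [h1] at h2
  have h3 : 0 < Nat.card R := Nat.card_pos
  nlinarith

/-- the local hypotheses of `BipA` -/
theorem pre [Finite G] (h : Bip R A B) : BipA.Pre A B where
  ne := h.ne'
  ne_bot := by rw [h.inf]; exact h.ne
  swap := by
    obtain ⟨s, -, h1, h2⟩ := h.swap
    exact ⟨s, h1, h2⟩
  comm := by
    intro a ha b hb
    rw [h.inf]
    exact h.comm a ha b hb
  cen := by
    rintro x ⟨hx, hx'⟩
    have h1 : x ∈ R := h.cenA x hx fun y hy => (mem_centralizer_iff.1 hx' y hy).symm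
    rw [← h.inf] at h1
    exact h1.2
  ti := by
    intro g hg
    rw [h.inf] at hg ⊢
    exact h.ti g (by rwa [inf_comm])
  perm := by
    intro g h1 h2
    rw [h.inf] at h1
    rcases h.nor g h1 with h3 | h3
    · exact h3.1
    · exact absurd (cj_inj (c := g) (h3.1.trans h2.symm)) h.ne'

/-- the hypotheses of `BipA` -/
theorem bip [Finite G] (h : Bip R A B) : BipA.Bip A B where
  toPre := h.pre
  quad := by
    intro X W hX hW hc
    obtain ⟨s, -, hs1, hs2⟩ := h.swap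
    -- `X = cj n B`, `cj n A = A`
    obtain ⟨n, hn1, rfl⟩ : ∃ n : G, cj n A = A ∧ X = cj n B := by
      obtain ⟨k, e1, e2⟩ := hX
      refine ⟨k * s, ?_, ?_⟩
      · rw [Beta.Meet.cj_mul, hs1]
        exact e2.symm
      · rw [Beta.Meet.cj_mul, hs2]
        exact e1
    obtain ⟨m, hm1, rfl⟩ : ∃ m : G, cj m B = B ∧ W = cj m A := by
      obtain ⟨k, e1, e2⟩ := hW
      refine ⟨k * s, ?_, ?_⟩
      · rw [Beta.Meet.cj_mul, hs2]
        exact e1.symm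
      · rw [Beta.Meet.cj_mul, hs1]
        exact e2
    have e1 : cj n B ⊓ A = cj n R := by
      conv_lhs => rw [← hn1]
      rw [← h.inf, inf_comm]
      exact (Subgroup.smul_inf _ _ _).symm
    have e2 : B ⊓ cj m A = cj m R := by
      conv_lhs => rw [← hm1]
      rw [← h.inf, inf_comm]
      exact (Subgroup.smul_inf _ _ _).symm
    rw [e1, e2] at hc
    by_cases hn : cj n R = R
    · have h1 : cj n B = B := by
        rcases h.nor n hn with h3 | h3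
        · exact h3.2
        · exact absurd (hn1.symm.trans h3.1) h.ne'
      rw [h1]
      exact hW
    by_cases hm : cj m R = R
    · have h1 : cj m A = A := by
        rcases h.nor m hm with h3 | h3
        · exact h3.1
        · exact absurd (h3.2.symm.trans hm1) h.ne'
      rw [h1]
      exact hX
    obtain ⟨g, h1, h2⟩ := h.key m n hm1 hn1 hm hn (by
      intro x hx y hy
      exact mem_centralizer_iff.1 (hc hy) x hx)
    exact h.pre.symm ⟨g, h1, h2⟩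
  cnt := by
    refine h.pre.cnt_of_card ?_ ?_ ?_
    · intro x hx
      exact mem_centralizer_iff.2 fun y hy => h.comA y hy x hx
    · rw [h.inf]
      exact h.big
    · intro r hr _
      obtain ⟨g, h1, h2⟩ := h.covB r hr
      refine ⟨cj g⁻¹ A, ?_, ?_⟩
      · have h3 := h.pre.symm ((adj_base (A₁ := A) (A₂ := B)).conj g⁻¹)
        have h4 : cj g⁻¹ B = B := by
          conv_lhs => rw [← h1]
          exact conj_inv_conj g B
        have h5 : MulAut.conj g⁻¹ • B = B := h4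
        rwa [h5] at h3
      · rw [mem_cj, inv_inv]
        rw [← h.inf] at h2
        exact h2.1
  gen := h.gen

/-- **(I5)** of text #15588. -/
theorem false [Finite G] (h : Bip R A B) : False := h.bip.false

end Bip

end Cfsg.Agent.Omega.NO1.Gamma

end

section


/-!
# Type (gamma): the contradiction

`Gin0.false : Gin0 → POut → R TI → G = ⟨N(R), N(V)⟩ → G simple → False`.
-/

set_option autoImplicit false
set_option linter.unusedVariables false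
set_option linter.unusedSectionVars false

open Subgroup
open scoped Pointwise

namespace Cfsg.Agent.Omega.NO1.Gamma

open Cfsg.Agent.Omega.NO1.Beta.Meet (cj mem_cj conj_mem_cj cj_mul cj_inj cj_eq_of_comm cj_eq_of_mem
  mem_normalizer_of_cj cj_of_mem_normalizer)

variable {G : Type*} [Group G] {I J : Type*}

theorem POut.transpose {V R A B : Subgroup G} (o : POut V R A B) : POut V R B A where
  perm g hg := by
    rcases o.perm g hg with ⟨h1, h2⟩ | ⟨h1, h2⟩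
    · exact Or.inl ⟨h2, h1⟩
    · exact Or.inr ⟨h2, h1⟩
  tran x hx hxR y hy hyR h := by
    obtain ⟨g, h1, h2, h3, h4, h5⟩ := o.tran y hy hyR x hx hxR h.symm
    exact ⟨g, h1, h3, h2, h5, h4⟩
  tranA y hy hyR := by
    obtain ⟨g, h1, h2, h3, h4⟩ := o.tranB y hy hyR
    exact ⟨g, h1, h3, h2, h4⟩
  tranB x hx hxR := by
    obtain ⟨g, h1, h2, h3, h4⟩ := o.tranA x hx hxR
    exact ⟨g, h1, h3, h2, h4⟩

namespace Grid

variable {V : Subgroup G} {R Q : I → J → Subgroup G} (g : Grid V R Q)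
include g

/-- `Q i j` normalises the row group `A_i` -/
theorem Q_nor_row {i : I} {j : J} {x : G} (hx : x ∈ Q i j) : x ∈ normalizer (rowG Q i : Set G) := by
  have h1 : ∀ a ∈ Q i j, ∀ b ∈ rowG Q i, a * b * a⁻¹ ∈ rowG Q i := by
    intro a ha b hb
    have h2 := g.R_row i j (g.QQ i j a ha b (g.rowG_le i j hb))
    have e : a * b * a⁻¹ = (a * b * a⁻¹ * b⁻¹) * b := by group
    rw [e]; exact mul_mem h2 hb
  rw [mem_normalizer_iff]
  intro b
  constructor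
  · intro hb; exact h1 x hx b hb
  · intro hb
    have := h1 x⁻¹ (inv_mem hx) _ hb
    have e : x⁻¹ * (x * b * x⁻¹) * x⁻¹⁻¹ = b := by group
    rwa [e] at this

/-- every column group normalises every row group -/
theorem col_nor_row (i : I) : (⨆ j, colG Q j) ≤ normalizer (rowG Q i : Set G) :=
  iSup_le fun j x hx => g.Q_nor_row (i := i) (j := j) (g.transpose.rowG_le j i hx)

theorem row_nor_col (j : J) : (⨆ i, rowG Q i) ≤ normalizer (colG Q j : Set G) :=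
  g.transpose.col_nor_row j

theorem Q_le_sup {A B : Subgroup G} {i0 : I} {j0 : J} (i : I) (j : J) :
    Q i j ≤ normalizer (rowG Q i0 : Set G) ⊔ normalizer (colG Q j0 : Set G) := by
  rw [g.Q_sup]
  refine sup_le ?_ ?_
  · exact (((le_iSup (rowG Q) i).trans (g.row_nor_col j0))).trans le_sup_right
  · exact (((le_iSup (colG Q) j).trans (g.col_nor_row i0))).trans le_sup_left

end Grid

theorem normalizer_sup_swap {A B : Subgroup G} {g : G} (h : (cj g A = A ∧ cj g B = B) ∨ (cj g A = B ∧ cj g B = A)) :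
    g ∈ normalizer ((normalizer (A : Set G) ⊔ normalizer (B : Set G) : Subgroup G) : Set G) := by
  have hN : ∀ (X : Subgroup G), cj g (normalizer (X : Set G)) = normalizer ((cj g X : Subgroup G) : Set G) := by
    intro X
    ext x
    rw [mem_cj]
    constructor
    · intro hx
      apply mem_normalizer_of_cj
      have h1 := cj_of_mem_normalizer hx
      have e : x = g * (g⁻¹ * x * g) * g⁻¹ := by group
      have h2 : cj x (cj g X) = cj g (cj (g⁻¹ * x * g) X) := by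
        rw [← cj_mul, ← cj_mul]; congr 1; group
      rw [h2, h1]
    · intro hx
      apply mem_normalizer_of_cj
      have h1 := cj_of_mem_normalizer hx
      apply cj_inj (c := g)
      rw [← cj_mul]
      have e : g * (g⁻¹ * x * g) = x * g := by group
      rw [e, cj_mul, h1]
  apply mem_normalizer_of_cj
  have h1 : cj g (normalizer (A : Set G) ⊔ normalizer (B : Set G)) =
      cj g (normalizer (A : Set G)) ⊔ cj g (normalizer (B : Set G)) := Subgroup.smul_sup _ _ _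
  rw [h1, hN, hN]
  rcases h with ⟨h2, h3⟩ | ⟨h2, h3⟩
  · rw [h2, h3]
  · rw [h2, h3, sup_comm]

namespace Gin0

variable {F : Type*} [Field F] {S : Sylow 2 G} {V : Subgroup G} {R Q : I → J → Subgroup G} {i0 i1 : I}
  {j0 j1 : J} {v : F → F → F → F → G} {p p' : G → F} (h : Gin0 F S V R Q i0 i1 j0 j1 v p p')
include h

/-- `V ⊓ A = {v a b 0 0}` -/
theorem mem_V_row {x : G} (hV : x ∈ V) (hx : x ∈ rowG Q i0) : ∃ a b, x = v a b 0 0 := by
  obtain ⟨a, b, c, d, rfl⟩ := h.v_surj x hV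
  obtain ⟨rfl, rfl⟩ := (h.row_V a b c d).1 hx
  exact ⟨a, b, rfl⟩

/-- `1 × w` maps `R i0 j0` to `R i0 j1` -/
theorem wey_facts : ∃ w ∈ ⨆ l, colG Q l, (∀ a b c d, w * v a b c d * w⁻¹ = v b a d c) ∧
    cj w (R i0 j0) = R i0 j1 ∧ cj w (rowG Q i0) = rowG Q i0 ∧ cj w (colG Q j0) = colG Q j1 := by
  obtain ⟨w, hw, h1⟩ := h.gin.wey
  have e1 : cj w (R i0 j0) = R i0 j1 := by
    ext x
    rw [mem_cj, h.R00, h.R01]
    constructor
    · rintro ⟨a, ha⟩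
      refine ⟨a, ?_⟩
      rw [← h1 a 0 0 0, ← ha]; group
    · rintro ⟨a, rfl⟩
      refine ⟨a, ?_⟩
      rw [← h1 a 0 0 0]; group
  have e2 : cj w (R i1 j0) = R i1 j1 := by
    ext x
    rw [mem_cj, h.R10, h.R11]
    constructor
    · rintro ⟨a, ha⟩
      refine ⟨a, ?_⟩
      rw [← h1 0 0 a 0, ← ha]; group
    · rintro ⟨a, rfl⟩
      refine ⟨a, ?_⟩
      rw [← h1 0 0 a 0]; group
  refine ⟨w, hw, h1, e1, ?_, ?_⟩
  · exact cj_of_mem_normalizer (h.grid.col_nor_row i0 hw)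
  · have h2 := h.grid.transpose.row_eq j0 h.hi
    have h3 := h.grid.transpose.row_eq j1 h.hi
    change Q i0 j0 ⊓ Q i1 j0 = colG Q j0 at h2
    change Q i0 j1 ⊓ Q i1 j1 = colG Q j1 at h3
    rw [← h2, cj_inf', h.grid.conj w _ _ _ _ e1, h.grid.conj w _ _ _ _ e2, h3]

theorem cov (o : POut V (R i0 j0) (rowG Q i0) (colG Q j0)) {x : G} (hx : x ∈ rowG Q i0) :
    ∃ g : G, cj g (rowG Q i0) = rowG Q i0 ∧ g * x * g⁻¹ ∈ R i0 j0 := by
  by_cases hxR : x ∈ R i0 j0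
  · exact ⟨1, cj_one' _, by simpa using hxR⟩
  obtain ⟨g, h1, h2, h3, h4⟩ := o.tranA x hx hxR
  obtain ⟨a, b, hab⟩ := h.mem_V_row h4 (mem_of_cj h2 hx)
  have hb : b ≠ 0 := by
    rintro rfl
    apply hxR
    have h5 : g * x * g⁻¹ ∈ R i0 j0 := (h.R00 _).2 ⟨a, hab⟩
    have h6 := mem_of_cj' h1 h5
    have e : g⁻¹ * (g * x * g⁻¹) * g = x := by group
    rwa [e] at h6
  obtain ⟨z, hz, hz1, hz2⟩ := h.p_surj 0 (-a / b)
  obtain ⟨w, hw, w1, w2, w3, w4⟩ := h.wey_facts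
  have e1 : z * v a b 0 0 * z⁻¹ = v 0 b 0 0 := by
    rw [h.act z hz, hz1, hz2]
    have : a + -a / b * b = 0 := by field_simp; ring
    rw [this]
    congr 1 <;> ring
  refine ⟨w * z * g, ?_, ?_⟩
  · rw [cj_mul, cj_mul, h2, cj_of_mem_normalizer (h.grid.Q_nor_row hz), w3]
  · have e : w * z * g * x * (w * z * g)⁻¹ = w * (z * (g * x * g⁻¹) * z⁻¹) * w⁻¹ := by group
    rw [e, hab, e1, w1]
    exact (h.R00 _).2 ⟨b, rfl⟩

theorem sup_eq_top (o : POut V (R i0 j0) (rowG Q i0) (colG Q j0))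
    (gen : normalizer (R i0 j0 : Set G) ⊔ normalizer (V : Set G) = ⊤) [hs : IsSimpleGroup G] :
    normalizer (rowG Q i0 : Set G) ⊔ normalizer (colG Q j0 : Set G) = ⊤ := by
  set Y := normalizer (rowG Q i0 : Set G) ⊔ normalizer (colG Q j0 : Set G) with hY
  have hR : normalizer (R i0 j0 : Set G) ≤ normalizer (Y : Set G) := by
    intro g hg
    exact normalizer_sup_swap (o.perm g (cj_of_mem_normalizer hg))
  have hQ : ∀ i j, Q i j ≤ Y := fun i j => h.grid.Q_le_sup (A := ⊥) (B := ⊥) i j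
  have hV : normalizer (V : Set G) ≤ normalizer (Y : Set G) := by
    intro g hg
    obtain ⟨i, j, hij⟩ : ∃ i j, cj g (R i0 j0) = R i j := by
      rcases h.norm g (cj_of_mem_normalizer hg) with ⟨σ, τ, h1⟩ | ⟨σ, τ, h1⟩
      · exact ⟨_, _, h1 i0 j0⟩
      · exact ⟨_, _, h1 i0 j0⟩
    obtain ⟨k, hk1, hk2⟩ := h.grid.threeI i0 i
    obtain ⟨l, hl1, hl2⟩ := h.grid.threeJ j0 j
    obtain ⟨y, hy, hyR⟩ := h.grid.tran k l i0 j0 i j hk1.symm hk2.symm hl1.symm hl2.symm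
    have h1 : y ∈ normalizer (Y : Set G) := le_normalizer (hQ k l hy)
    have h2 : y⁻¹ * g ∈ normalizer (Y : Set G) := by
      apply hR
      apply mem_normalizer_of_cj
      rw [cj_mul, hij]
      exact cj_inv_of hyR
    have := mul_mem h1 h2
    rwa [mul_inv_cancel_left] at this
  have hnor : normalizer (Y : Set G) = ⊤ := by
    rw [eq_top_iff, ← gen]
    exact sup_le hR hV
  have hn : Y.Normal := normalizer_eq_top_iff.1 hnor
  rcases hn.eq_bot_or_eq_top with h1 | h1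
  · exfalso
    apply h.grid.ne i0 j0
    rw [eq_bot_iff, ← h1]
    exact (h.grid.R_Q i0 j0).trans (hQ i0 j0)
  · exact h1

theorem bip [Finite G] (o : POut V (R i0 j0) (rowG Q i0) (colG Q j0))
    (ti : ∀ g : G, R i0 j0 ⊓ cj g (R i0 j0) ≠ ⊥ → cj g (R i0 j0) = R i0 j0)
    (gen : normalizer (R i0 j0 : Set G) ⊔ normalizer (V : Set G) = ⊤) [hs : IsSimpleGroup G] :
    Bip (R i0 j0) (rowG Q i0) (colG Q j0) := by
  have := h.nonI
  have := h.nonJ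
  have hG := h.gin
  have rc := hG.rc
  have hcen : ∀ x ∈ Q i0 j0, (∀ y ∈ rowG Q i0, x * y = y * x) → (∀ y ∈ colG Q j0, x * y = y * x) →
      x ∈ R i0 j0 := by
    intro x hx h1 h2
    apply h.grid.cen i0 j0 x hx
    intro z hz
    obtain ⟨a, ha, b, hb, rfl⟩ := h.grid.Q_mul hz
    calc x * (a * b) = (x * a) * b := by group
      _ = a * (x * b) := by rw [h1 a ha]; group
      _ = a * b * x := by rw [h2 b hb]; group
  have hrow : rowG Q i0 ≤ Q i0 j0 := h.grid.rowG_le i0 j0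
  have hcol : colG Q j0 ≤ Q i0 j0 := h.grid.transpose.rowG_le j0 i0
  have hAB : rowG Q i0 ≠ colG Q j0 := by
    intro he
    have h1 : v 0 1 0 0 ∈ colG Q j0 := by rw [← he]; exact h.v_row 0 1
    exact one_ne_zero ((hG.col_V 0 1 0 0).1 h1).1
  obtain ⟨w, hw, w1, w2, w3, w4⟩ := h.wey_facts
  obtain ⟨w', hw', w1', w2', w3', w4'⟩ := h.transpose.wey_facts
  change w' ∈ ⨆ l, rowG Q l at hw'
  change cj w' (R i0 j0) = R i1 j0 at w2'
  change cj w' (colG Q j0) = colG Q j0 at w3'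
  change cj w' (rowG Q i0) = rowG Q i1 at w4'
  -- TI for two conjugates
  have ti2 : ∀ a b : G, cj a (R i0 j0) ⊓ cj b (R i0 j0) ≠ ⊥ → cj a (R i0 j0) = cj b (R i0 j0) := by
    intro a b hab
    have h1 : R i0 j0 ⊓ cj (a⁻¹ * b) (R i0 j0) ≠ ⊥ := by
      intro h0
      apply hab
      rw [eq_bot_iff]
      intro x hx
      rw [mem_inf, mem_cj, mem_cj] at hx
      have h2 : a⁻¹ * x * a ∈ R i0 j0 ⊓ cj (a⁻¹ * b) (R i0 j0) := by
        refine mem_inf.2 ⟨hx.1, ?_⟩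
        rw [mem_cj]
        have e : (a⁻¹ * b)⁻¹ * (a⁻¹ * x * a) * (a⁻¹ * b) = b⁻¹ * x * b := by group
        rw [e]; exact hx.2
      rw [h0, mem_bot] at h2
      rw [mem_bot]
      calc x = a * (a⁻¹ * x * a) * a⁻¹ := by group
        _ = 1 := by rw [h2]; group
    have h3 := ti _ h1
    rw [cj_mul] at h3
    have h4 := congrArg (cj a) h3
    rw [← cj_mul, mul_inv_cancel, cj_one'] at h4
    exact h4.symm
  -- the partner is determined
  have fixB : ∀ a b : G, cj a (R i0 j0) = cj b (R i0 j0) → cj a (rowG Q i0) = cj b (rowG Q i0) →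
      cj a (colG Q j0) = cj b (colG Q j0) := by
    intro a b h1 h2
    have h3 : cj (b⁻¹ * a) (R i0 j0) = R i0 j0 := by
      rw [cj_mul, h1, ← cj_mul, inv_mul_cancel, cj_one']
    have h4 : cj (b⁻¹ * a) (rowG Q i0) = rowG Q i0 := by
      rw [cj_mul, h2, ← cj_mul, inv_mul_cancel, cj_one']
    rcases o.perm _ h3 with ⟨-, h5⟩ | ⟨h5, -⟩
    · have h6 := congrArg (cj b) h5
      rw [← cj_mul, mul_inv_cancel_left] at h6
      exact h6
    · exact absurd (h4.symm.trans h5) hAB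
  have fixA : ∀ a b : G, cj a (R i0 j0) = cj b (R i0 j0) → cj a (colG Q j0) = cj b (colG Q j0) →
      cj a (rowG Q i0) = cj b (rowG Q i0) := by
    intro a b h1 h2
    have h3 : cj (b⁻¹ * a) (R i0 j0) = R i0 j0 := by
      rw [cj_mul, h1, ← cj_mul, inv_mul_cancel, cj_one']
    have h4 : cj (b⁻¹ * a) (colG Q j0) = colG Q j0 := by
      rw [cj_mul, h2, ← cj_mul, inv_mul_cancel, cj_one']
    rcases o.perm _ h3 with ⟨h5, -⟩ | ⟨-, h5⟩
    · have h6 := congrArg (cj b) h5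
      rw [← cj_mul, mul_inv_cancel_left] at h6
      exact h6
    · exact absurd (h5.symm.trans h4) hAB
  refine ⟨h.grid.ne i0 j0, ti, rc.inf i0 j0, rc.row_comm i0, rc.col_comm j0, ?_, o.perm, ?_, ?_, ?_, ?_, ?_, ?_, ?_, ?_⟩
  · intro x hx y hy
    exact h.grid.QQ i0 j0 x (hrow hx) y (hcol hy)
  · intro x hx h1
    exact hcen x (hrow hx) (rc.row_comm i0 x hx) h1
  · intro y hy h1
    exact hcen y (hcol hy) (fun x hx => (h1 x hx).symm) (rc.col_comm j0 y hy)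
  · intro x hx
    exact h.cov o hx
  · intro y hy
    exact h.transpose.cov o.transpose hy
  · -- big
    have hFfin : Finite F := Finite.of_injective (fun a => v a 0 0 0) fun a b e => (h.inj e).1
    have hRc : Nat.card (R i0 j0) = Nat.card F := by
      apply Nat.card_congr
      refine (Equiv.ofBijective (fun a : F => (⟨v a 0 0 0, (h.R00 _).2 ⟨a, rfl⟩⟩ : R i0 j0)) ⟨?_, ?_⟩).symm
      · intro a b e
        exact (h.inj (congrArg Subtype.val e)).1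
      · rintro ⟨x, hx⟩
        obtain ⟨a, rfl⟩ := (h.R00 _).1 hx
        exact ⟨a, rfl⟩
    -- an injection `F × F × F → colG Q j0`
    have hsec : ∀ t : F, ∃ x ∈ colG Q j0, p' x = t := by
      intro t
      obtain ⟨x, hx, h1, h2⟩ := h.p_surj 0 t
      obtain ⟨a, ha, b, hb, rfl⟩ := h.grid.Q_mul hx
      refine ⟨b, hb, ?_⟩
      rw [← h2, (h.p_mul (hrow ha) (hcol hb)).2, h.row_p ha, zero_add]
    choose s hs1 hs2 using hsec
    have hp'V : ∀ a c : F, p' (v a 0 c 0) = 0 := by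
      intro a c
      have h1 : v a 0 c 0 ∈ Q i0 j0 := hcol (h.v_col a c)
      have h2 := h.act _ h1 0 0 0 1
      have h3 := h.grid.comm _ (h.v_mem a 0 c 0) _ (h.v_mem 0 0 0 1)
      rw [h3, mul_inv_cancel_right] at h2
      have h4 := (h.inj h2).2.2.1
      simpa using h4.symm
    let f : F × F × F → colG Q j0 := fun x =>
      ⟨v x.1 0 x.2.1 0 * s x.2.2, mul_mem (h.v_col _ _) (hs1 _)⟩
    have hf : Function.Injective f := by
      rintro ⟨a, c, t⟩ ⟨a', c', t'⟩ e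
      have e1 : v a 0 c 0 * s t = v a' 0 c' 0 * s t' := congrArg Subtype.val e
      have e2 : t = t' := by
        have h1 := (h.p_mul (hcol (h.v_col a c)) (hcol (hs1 t))).2
        have h2 := (h.p_mul (hcol (h.v_col a' c')) (hcol (hs1 t'))).2
        rw [e1, h2, hp'V, hp'V, hs2, hs2] at h1
        linear_combination -h1
      subst e2
      have e3 := mul_right_cancel e1
      obtain ⟨h1, -, h3, -⟩ := h.inj e3
      rw [h1, h3]
    have h1 := Nat.card_le_card_of_injective f hf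
    rw [Nat.card_prod, Nat.card_prod] at h1
    have h2 : 2 ≤ Nat.card F := by
      have : Nontrivial F := inferInstance
      exact Finite.one_lt_card
    rw [hRc]
    have h3 : Nat.card F ^ 2 < Nat.card F * (Nat.card F * Nat.card F) := by
      have h4 : 0 < Nat.card F := by omega
      nlinarith [Nat.mul_pos h4 h4]
    exact lt_of_lt_of_le h3 h1
  · obtain ⟨s, -, -, h2, h3, h4⟩ := hG.swap
    exact ⟨s, h2, h3, h4⟩
  · -- key
    intro m n hm hn hmR hnR hcomm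
    have hne : ∀ a : G, cj a (R i0 j0) ≠ ⊥ := by
      intro a ha
      apply h.grid.ne i0 j0
      rw [← cj_one' (R i0 j0), ← inv_mul_cancel a, cj_mul, ha]
      exact Subgroup.smul_bot _
    obtain ⟨y, hy, hy1⟩ := (Subgroup.bot_or_exists_ne_one (cj m (R i0 j0))).resolve_left (hne m)
    obtain ⟨x, hx, hx1⟩ := (Subgroup.bot_or_exists_ne_one (cj n (R i0 j0))).resolve_left (hne n)
    have hmA : cj m (R i0 j0) ≤ colG Q j0 := by
      rw [← hm]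
      intro z hz
      rw [mem_cj] at hz ⊢
      exact rc.R_col i0 j0 hz
    have hnA : cj n (R i0 j0) ≤ rowG Q i0 := by
      rw [← hn]
      intro z hz
      rw [mem_cj] at hz ⊢
      exact rc.R_row i0 j0 hz
    have hxR : x ∉ R i0 j0 := by
      intro hxR
      apply hnR
      apply ti
      intro h0
      apply hx1
      have : x ∈ R i0 j0 ⊓ cj n (R i0 j0) := mem_inf.2 ⟨hxR, hx⟩
      rwa [h0, mem_bot] at this
    have hyR : y ∉ R i0 j0 := by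
      intro hyR
      apply hmR
      apply ti
      intro h0
      apply hy1
      have : y ∈ R i0 j0 ⊓ cj m (R i0 j0) := mem_inf.2 ⟨hyR, hy⟩
      rwa [h0, mem_bot] at this
    obtain ⟨g, g1, g2, g3, g4, g5⟩ := o.tran x (hnA hx) hxR y (hmA hy) hyR (hcomm y hy x hx).symm
    obtain ⟨a, b, hab⟩ := h.mem_V_row g4 (mem_of_cj g2 (hnA hx))
    obtain ⟨a', c, hac⟩ := h.transpose.mem_V_row g5 (mem_of_cj g3 (hmA hy))
    change g * y * g⁻¹ = v a' 0 c 0 at hac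
    have notR : ∀ z : G, z ∉ R i0 j0 → g * z * g⁻¹ ∉ R i0 j0 := by
      intro z hz h5
      apply hz
      have h6 := mem_of_cj' g1 h5
      have e : g⁻¹ * (g * z * g⁻¹) * g = z := by group
      rwa [e] at h6
    have hb : b ≠ 0 := by
      rintro rfl
      exact notR x hxR ((h.R00 _).2 ⟨a, hab⟩)
    have hc : c ≠ 0 := by
      rintro rfl
      exact notR y hyR ((h.R00 _).2 ⟨a', hac⟩)
    obtain ⟨z, hz, hz1, hz2⟩ := h.p_surj (-a' / c) (-a / b)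
    have e1 : z * v a b 0 0 * z⁻¹ = v 0 b 0 0 := by
      rw [h.act z hz, hz1, hz2]
      have : a + -a / b * b = 0 := by field_simp; ring
      rw [this]
      congr 1 <;> ring
    have e2 : z * v a' 0 c 0 * z⁻¹ = v 0 0 c 0 := by
      rw [h.act z hz, hz1, hz2]
      have : a' + -a' / c * c = 0 := by field_simp; ring
      have e3 : a' + -a / b * 0 + -a' / c * c + -a' / c * (-a / b) * 0 = 0 := by
        rw [mul_zero, mul_zero, add_zero, add_zero, this]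
      rw [e3]
      congr 1 <;> ring
    have zR : cj z (R i0 j0) = R i0 j0 := h.grid.fix_R hz
    have zA : cj z (rowG Q i0) = rowG Q i0 := cj_of_mem_normalizer (h.grid.Q_nor_row hz)
    have zB : cj z (colG Q j0) = colG Q j0 := cj_of_mem_normalizer (h.grid.transpose.Q_nor_row (i := j0) (j := i0) hz)
    set k := z * g with hk
    have kR : cj k (R i0 j0) = R i0 j0 := by rw [hk, cj_mul, g1, zR]
    have kA : cj k (rowG Q i0) = rowG Q i0 := by rw [hk, cj_mul, g2, zA]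
    have kB : cj k (colG Q j0) = colG Q j0 := by rw [hk, cj_mul, g3, zB]
    have kx : k * x * k⁻¹ = v 0 b 0 0 := by
      have e : k * x * k⁻¹ = z * (g * x * g⁻¹) * z⁻¹ := by rw [hk]; group
      rw [e, hab, e1]
    have ky : k * y * k⁻¹ = v 0 0 c 0 := by
      have e : k * y * k⁻¹ = z * (g * y * g⁻¹) * z⁻¹ := by rw [hk]; group
      rw [e, hac, e2]
    have n1 : cj (k * n) (R i0 j0) = cj w (R i0 j0) := by
      apply ti2
      intro h0
      have h5 : v 0 b 0 0 ∈ cj (k * n) (R i0 j0) ⊓ cj w (R i0 j0) := by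
        refine mem_inf.2 ⟨?_, ?_⟩
        · rw [← kx, cj_mul]
          exact conj_mem_cj hx
        · rw [w2]; exact (h.R01 _).2 ⟨b, rfl⟩
      rw [h0, mem_bot] at h5
      exact hb (h.v_inj _ _ _ _ h5).2.1
    have m1 : cj (k * m) (R i0 j0) = cj w' (R i0 j0) := by
      apply ti2
      intro h0
      have h5 : v 0 0 c 0 ∈ cj (k * m) (R i0 j0) ⊓ cj w' (R i0 j0) := by
        refine mem_inf.2 ⟨?_, ?_⟩
        · rw [← ky, cj_mul]
          exact conj_mem_cj hy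
        · rw [w2']; exact (h.R10 _).2 ⟨c, rfl⟩
      rw [h0, mem_bot] at h5
      exact hc (h.v_inj _ _ _ _ h5).2.2.1
    have n2 : cj (k * n) (colG Q j0) = cj w (colG Q j0) := by
      apply fixB _ _ n1
      rw [cj_mul, hn, kA, w3]
    have m2 : cj (k * m) (rowG Q i0) = cj w' (rowG Q i0) := by
      apply fixA _ _ m1
      rw [cj_mul, hm, kB, w3']
    -- `w'` normalises `colG Q j1`
    have w5 : cj w' (colG Q j1) = colG Q j1 := cj_of_mem_normalizer (h.grid.row_nor_col j1 hw')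
    refine ⟨k⁻¹ * (w' * w), ?_, ?_⟩
    · have h6 := congrArg (cj k⁻¹) m2
      rw [← cj_mul, inv_mul_cancel_left] at h6
      rw [h6, cj_mul k⁻¹, cj_mul w', w3]
    · have h6 := congrArg (cj k⁻¹) n2
      rw [← cj_mul, inv_mul_cancel_left] at h6
      rw [h6, cj_mul k⁻¹, cj_mul w', w4, w5]
  · exact h.sup_eq_top o gen

/-- **The contradiction.** -/
theorem false [Finite G] (o : POut V (R i0 j0) (rowG Q i0) (colG Q j0))
    (ti : ∀ g : G, R i0 j0 ⊓ cj g (R i0 j0) ≠ ⊥ → cj g (R i0 j0) = R i0 j0)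
    (gen : normalizer (R i0 j0 : Set G) ⊔ normalizer (V : Set G) = ⊤) [hs : IsSimpleGroup G] : False :=
  (h.bip o ti gen).false

end Gin0

end Cfsg.Agent.Omega.NO1.Gamma

end
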